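import Cfsg.Agent.Lib.Flavell.Overgroup
import Cfsg.Agent.Lib.Flavell.Central

/-!
# Overgroups of `[T, σ]` with a moved `p`-part

* `Cex.moved_two_eq`, `Cex.moved_le_of_sylows_in`: the moved parts in an invariant subgroup;
* `Ov`: an overgroup `K` with maximal `p`-part, `K = N([K, σ])`;
* `Cex.exists_ov`: one exists as soon as some proper invariant overgroup has a moved `p`-subgroup.
-/

set_option autoImplicit false

namespace Cfsg.Agent.Flavell

open Subgroup Cfsg

variable {G : Type*} [Group G] [Finite G] {σ : MulAut G} {r p : ℕ}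

omit [Finite G] in
theorem moved_map_conj {c : G} (hc : σ c = c) (S : Subgroup G) :
    moved σ (S.map (MulAut.conj c).toMonoidHom) = (moved σ S).map (MulAut.conj c).toMonoidHom := by
  rw [moved, moved, MonoidHom.map_closure]
  congr 1
  ext y
  constructor
  · rintro ⟨_, ⟨x, hx, rfl⟩, rfl⟩
    exact ⟨x⁻¹ * σ x, ⟨x, hx, rfl⟩, by simp [MulAut.conj_apply, hc, mul_assoc]⟩
  · rintro ⟨_, ⟨x, hx, rfl⟩, rfl⟩
    exact ⟨_, ⟨x, hx, rfl⟩, by simp [MulAut.conj_apply, hc, mul_assoc]⟩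

omit [Finite G] in
theorem Inv.map_conj {S : Subgroup G} (hS : Inv σ S) {c : G} (hc : σ c = c) :
    Inv σ (S.map (MulAut.conj c).toMonoidHom) := by
  rintro _ ⟨x, hx, rfl⟩
  exact ⟨σ x, hS x hx, by simp [MulAut.conj_apply, hc]⟩

/-- An invariant `q`-subgroup of `H` lies in an invariant Sylow `q`-subgroup of `H`. -/
theorem Cop.exists_sylow_in (hc : Cop σ r) {q : ℕ} [Fact q.Prime] {H U : Subgroup G} (hH : Inv σ H)
    (hUH : U ≤ H) (hU : IsPGroup q U) (hUσ : Inv σ U) :
    ∃ R : Sylow q H, Inv σ ((R : Subgroup H).map H.subtype) ∧ U ≤ (R : Subgroup H).map H.subtype := by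
  obtain ⟨R, hR, hUR⟩ := (hc.restr hH).exists_invariant_sylow_ge (U := U.subgroupOf H) hU.comap_subtype
    fun x hx => hUσ x hx
  refine ⟨R, ?_, fun x hx => ⟨⟨x, hUH hx⟩, hUR hx, rfl⟩⟩
  rintro _ ⟨x, hx, rfl⟩
  exact ⟨Flavell.restr hH x, hR x hx, rfl⟩

theorem inv_restr_subgroupOf {H L : Subgroup G} (hH : Inv σ H) (hL : Inv σ L) :
    Inv (restr hH) (L.subgroupOf H) := fun x hx => hL x hx

omit [Finite G] in
/-- Subgroups of prime-to-each-other orders meet trivially. -/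
theorem eq_one_of_mem_of_mem {q q' : ℕ} [Fact q.Prime] [Fact q'.Prime] (hne : q ≠ q') {A B : Subgroup G}
    (hA : IsPGroup q A) (hB : IsPGroup q' B) {x : G} (ha : x ∈ A) (hb : x ∈ B) : x = 1 :=
  (Subgroup.disjoint_def.1 (hA.disjoint_of_ne q q' hne A B hB)) ha hb

variable {k : Type*} [Field k] {V : Type*} [AddCommGroup V] [Module k V] {ρ : Representation k G V}
  {τ : Module.End k V} [Fact p.Prime] [CharP k p] (hx : Cex ρ σ τ r p)
  [IsAlgClosed k] [FiniteDimensional k V] [Nontrivial V]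

include hx

omit [Fact p.Prime] [CharP k p] [IsAlgClosed k] [FiniteDimensional k V] [Nontrivial V] in
/-- The moved part of an invariant 2-subgroup containing `[T, σ]` is `[T, σ]`. -/
theorem Cex.moved_two_eq (T : Sylow 2 G) (hT : Inv σ (T : Subgroup G)) {S : Subgroup G} (hS : IsPGroup 2 S)
    (hSσ : Inv σ S) (hQ : moved σ (T : Subgroup G) ≤ S) : moved σ S = moved σ (T : Subgroup G) := by
  obtain ⟨T', hT', hle⟩ := hx.mod.cop.exists_invariant_sylow_ge hS hSσ
  obtain ⟨c, hcf, hcT⟩ := hx.mod.cop.sylow_conj T T' hT hT'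
  have e : (T' : Subgroup G) = (T : Subgroup G).map (MulAut.conj c).toMonoidHom := by
    ext x
    rw [hcT]
    refine ⟨fun h => ⟨_, h, by simp [MulAut.conj_apply, mul_assoc]⟩, ?_⟩
    rintro ⟨y, hy, rfl⟩
    rw [show c⁻¹ * (MulAut.conj c).toMonoidHom y * c = y by simp [MulAut.conj_apply, mul_assoc]]
    exact hy
  have h2 : moved σ (T : Subgroup G) ≤ moved σ S :=
    (hx.mod.cop.moved_moved hT).ge.trans (moved_mono hQ)
  refine (eq_of_le_of_card_ge h2 ?_).symm
  calc Nat.card (moved σ S) ≤ Nat.card (moved σ (T' : Subgroup G)) :=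
        Nat.le_of_dvd Nat.card_pos (card_dvd_of_le (moved_mono hle))
    _ = Nat.card (moved σ (T : Subgroup G)) := by
      rw [e, moved_map_conj hcf, card_map_of_injective (MulAut.conj c).injective]

/-- The moved parts of one invariant Sylow 2 and Sylow `p` generate the moved part. -/
theorem Cex.moved_le_of_sylows_in {H L : Subgroup G} (hH : Inv σ H) (hL : Inv σ L) (S : Sylow 2 H)
    (hS : Inv σ ((S : Subgroup H).map H.subtype)) (R : Sylow p H) (hR : Inv σ ((R : Subgroup H).map H.subtype))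
    (h2 : moved σ ((S : Subgroup H).map H.subtype) ≤ L)
    (hp : moved σ ((R : Subgroup H).map H.subtype) ≤ L) : moved σ H ≤ L := by
  have key : ∀ U : Subgroup H, moved σ (U.map H.subtype) ≤ L → moved (restr hH) U ≤ L.subgroupOf H := by
    intro U hU
    refine moved_le_iff.2 fun x hx' => mem_subgroupOf.2 ?_
    exact hU (mem_moved (mem_map_of_mem _ hx'))
  have hinv : ∀ U : Subgroup H, Inv σ (U.map H.subtype) → Inv (restr hH) U := by
    intro U hU x hx'
    obtain ⟨y, hy, e⟩ := hU _ (mem_map_of_mem _ hx')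
    rwa [show restr hH x = y from Subtype.ext e.symm]
  have h := (hx.mod.cop.restr hH).moved_le_of_moved_sylows (K := L.subgroupOf H) (inv_restr_subgroupOf hH hL)
    fun q _ => ?_
  · rw [← map_moved_restr hH]
    rintro _ ⟨y, hy, rfl⟩
    exact h hy
  rcases eq_or_ne q 2 with rfl | hq2
  · exact ⟨S, hinv _ hS, key _ h2⟩
  rcases eq_or_ne q p with rfl | hqp
  · exact ⟨R, hinv _ hR, key _ hp⟩
  obtain ⟨U, hU⟩ := (hx.mod.cop.restr hH).exists_invariant_sylow q
  have hUσ : Inv σ ((U : Subgroup H).map H.subtype) := by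
    rintro _ ⟨y, hy, rfl⟩
    exact ⟨restr hH y, hU y hy, rfl⟩
  exact ⟨U, hU, key _ ((moved_eq_bot_iff.2 (hx.mod.le_fixS_of_odd hqp hq2 hUσ (U.2.map _))).le.trans bot_le)⟩

/-- The `p`-part of an overgroup, maximal. -/
structure Ov (σ : MulAut G) (p : ℕ) [Fact p.Prime] (Q : Subgroup G) where
  /-- The overgroup. -/
  K : Subgroup G
  /-- An invariant Sylow subgroup of `G`. -/
  P : Sylow p G
  inv_K : Inv σ K
  ne_top : K ≠ ⊤
  le_K : Q ≤ K
  inv_P : Inv σ (P : Subgroup G)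
  card_inf : (Nat.card ((P : Subgroup G) ⊓ K : Subgroup G)).factorization p = (Nat.card K).factorization p
  moved_ne : moved σ ((P : Subgroup G) ⊓ K) ≠ ⊥
  maximal : ∀ H : Subgroup G, Inv σ H → H ≠ ⊤ → Q ≤ H →
    ∀ R ≤ H, Inv σ R → IsPGroup p R → moved σ R ≠ ⊥ →
      (Nat.card H).factorization p ≤ (Nat.card K).factorization p
  le_of : ∀ H : Subgroup G, Inv σ H → H ≠ ⊤ → (P : Subgroup G) ⊓ K ≤ H → Q ≤ H → H ≤ K

/-- A proper invariant overgroup of `[T, σ]` with a moved `p`-subgroup gives an `Ov`. -/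
theorem Cex.exists_ov (hO : pCore 2 G ≤ center G) (T : Sylow 2 G) (hT : Inv σ (T : Subgroup G))
    {K₀ R₀ : Subgroup G} (hK : Inv σ K₀) (hne : K₀ ≠ ⊤) (hQ : moved σ (T : Subgroup G) ≤ K₀)
    (hR₀ : R₀ ≤ K₀) (hR₀σ : Inv σ R₀) (hR₀p : IsPGroup p R₀) (hR₀m : moved σ R₀ ≠ ⊥) :
    Nonempty (Ov σ p (moved σ (T : Subgroup G))) := by
  classical
  set Q := moved σ (T : Subgroup G) with hQdef
  haveI := Fact.mk Nat.prime_two
  obtain ⟨K, ⟨hKσ, hKne, hQK, R, hRK, hRσ, hRp, hRm⟩, hmax⟩ := Set.exists_max_image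
    {H : Subgroup G | Inv σ H ∧ H ≠ ⊤ ∧ Q ≤ H ∧ ∃ R ≤ H, Inv σ R ∧ IsPGroup p R ∧ moved σ R ≠ ⊥}
    (fun H => (Nat.card H).factorization p) (Set.toFinite _)
    ⟨K₀, hK, hne, hQ, R₀, hR₀, hR₀σ, hR₀p, hR₀m⟩
  obtain ⟨R₁, hR₁, hRR₁⟩ := hx.mod.cop.exists_sylow_in hKσ hRK hRp hRσ
  set P₀ := (R₁ : Subgroup K).map K.subtype with hP₀
  have hP₀p : IsPGroup p P₀ := R₁.2.map _
  have hP₀K : P₀ ≤ K := map_subtype_le _
  have hP₀m : moved σ P₀ ≠ ⊥ := fun h => hRm (le_bot_iff.1 (h ▸ moved_mono hRR₁))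
  have hcard : (Nat.card P₀).factorization p = (Nat.card K).factorization p := by
    rw [hP₀, card_map_of_injective (subtype_injective _), R₁.card_eq_multiplicity,
      (Fact.out : p.Prime).factorization_pow, Finsupp.single_eq_same]
  obtain ⟨P, hP, hP₀P⟩ := hx.mod.cop.exists_invariant_sylow_ge hP₀p hR₁
  have mono : ∀ {A B : Subgroup G}, A ≤ B → (Nat.card A).factorization p ≤ (Nat.card B).factorization p :=
    fun hAB => (Nat.factorization_le_iff_dvd Nat.card_pos.ne' Nat.card_pos.ne').2 (card_dvd_of_le hAB) p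
  -- the same moved part in every overgroup of `P₀` and `Q`
  have hLH : ∀ H : Subgroup G, Inv σ H → H ≠ ⊤ → P₀ ≤ H → Q ≤ H → moved σ H = moved σ P₀ ⊔ Q := by
    intro H hH hHne hPH hQH
    have hle := hmax H ⟨hH, hHne, hQH, P₀, hPH, hR₁, hP₀p, hP₀m⟩
    obtain ⟨U, hU, hPU⟩ := hx.mod.cop.exists_sylow_in hH hPH hP₀p hR₁
    have hUeq : P₀ = (U : Subgroup H).map H.subtype := by
      refine eq_of_le_of_card_ge hPU (le_of_eq ?_)
      obtain ⟨a, ha⟩ := hP₀p.exists_card_eq
      rw [card_map_of_injective (subtype_injective _), U.card_eq_multiplicity, ha]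
      congr 1
      have h2 := congrArg (fun n => n.factorization p) ha
      simp only [(Fact.out : p.Prime).factorization_pow, Finsupp.single_eq_same] at h2
      have h3 := mono hPH
      omega
    obtain ⟨S, hS, hQS⟩ := hx.mod.cop.exists_sylow_in hH hQH (T.2.to_le (moved_le hT)) (inv_moved hT)
    refine le_antisymm (hx.moved_le_of_sylows_in hH ((inv_moved hR₁).sup (inv_moved hT)) S hS U hU
      ?_ (hUeq ▸ le_sup_left)) (sup_le (moved_mono hPH) ?_)
    · rw [hx.moved_two_eq T hT (S.2.map _) hS hQS]; exact le_sup_right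
    · exact (hx.mod.cop.moved_moved hT).ge.trans (moved_mono hQH)
  set L := moved σ K with hL
  have hLeq : L = moved σ P₀ ⊔ Q := hLH K hKσ hKne hP₀K hQK
  set N := normalizer (L : Set G) with hN
  have hKN : K ≤ N := le_normalizer_moved K
  have hNne : N ≠ ⊤ := by
    intro htop
    have hLc : L ≤ center G := hx.le_center_of_normal hO (normalizer_eq_top_iff.1 htop)
      (fun h => hKne (top_le_iff.1 (h ▸ moved_le hKσ))) (inv_moved hKσ)
    refine hx.moved_two_ne_bot T (le_bot_iff.1 ?_)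
    rw [← hx.mod.cop.moved_moved hT, le_bot_iff, moved_eq_bot_iff]
    exact (le_sup_right.trans hLeq.ge).trans (hLc.trans hx.center_le_fixS)
  have hNσ : Inv σ N := (inv_moved hKσ).normalizer
  have hNcard : (Nat.card N).factorization p = (Nat.card K).factorization p :=
    le_antisymm (hmax N ⟨hNσ, hNne, hQK.trans hKN, P₀, hP₀K.trans hKN, hR₁, hP₀p, hP₀m⟩) (mono hKN)
  have hPN : (P : Subgroup G) ⊓ N = P₀ := by
    refine (eq_of_le_of_card_ge (le_inf hP₀P (hP₀K.trans hKN)) ?_).symm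
    obtain ⟨a, ha⟩ := (P.2.to_le (inf_le_left (b := N))).exists_card_eq
    obtain ⟨b, hb⟩ := hP₀p.exists_card_eq
    have h1 := mono (inf_le_right : (P : Subgroup G) ⊓ N ≤ N)
    rw [hNcard, ← hcard, ha, hb, (Fact.out : p.Prime).factorization_pow, (Fact.out : p.Prime).factorization_pow,
      Finsupp.single_eq_same, Finsupp.single_eq_same] at h1
    rw [ha, hb]
    exact Nat.pow_le_pow_right (Fact.out : p.Prime).pos h1
  refine ⟨⟨N, P, hNσ, hNne, hQK.trans hKN, hP, ?_, ?_, ?_, ?_⟩⟩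
  · rw [hPN, hNcard, hcard]
  · rw [hPN]; exact hP₀m
  · intro H hH hHne hQH R hR hRσ' hRp' hRm'
    rw [hNcard]
    exact hmax H ⟨hH, hHne, hQH, R, hR, hRσ', hRp', hRm'⟩
  · intro H hH hHne hPH hQH
    rw [hPN] at hPH
    show H ≤ normalizer (L : Set G)
    rw [hLeq, ← hLH H hH hHne hPH hQH]
    exact le_normalizer_moved H

end Cfsg.Agent.Flavell
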