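import Cfsg.Agent.Lib.Flavell.OvergroupGen.QuadStable
import Cfsg.Agent.Lib.Replacement.Characteristic
import Cfsg.Agent.Lib.Replacement.Constrained

/-!
# `Z(J)` in a group `P₀ Q`

`H = P₀ Q` with `P₀` a Sylow `p`-subgroup, `R ≤ P₀` normal, every element of `P₀` a product `x c` with `x ∈ R` and
`c` inducing on `Q` (of `Kind`) an automorphism commuting with `σ`.

* `Kind.commute_of_quadratic`: if `x c` is quadratic on a normal `p`-subgroup `V`, every `u⁻¹ γ u` centralises `V`;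
* `Kind.centerThompson_normal`: if only central elements of `Q` centralise `O_p(H)`, then `Z(J(P₀))` is normal.
-/

set_option autoImplicit false
set_option linter.unusedSectionVars false
set_option linter.style.haveILetI false

namespace Cfsg.Agent.Flavell

open Subgroup Cfsg
open scoped commutatorElement

variable {H : Type*} [Group H] [Finite H] {Q : Type*} [Group Q] [Finite Q] {σ : MulAut Q} {r m p : ℕ}
  [Fact p.Prime]

/-- `Kind.apply_eq` for automorphisms of an elementary abelian `p`-group. -/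
theorem Kind.apply_eq_aut (hk : Kind σ r m) (hp2 : p ≠ 2) (hpr : p ≠ r) {γ : MulAut Q}
    (hγσ : ∀ u, γ (σ u) = σ (γ u)) {e : ℕ} (hγ : γ ^ (p ^ e) = 1) {U : Type*} [CommGroup U]
    (hexp : ∀ a : U, a ^ p = 1) (φ : Q →* MulAut U) (C : MulAut U) (hquad : ∀ y, C (y / C y) = y / C y)
    (hint : ∀ u, C * φ u = φ (γ u) * C) (u : Q) : φ (γ u) = φ u := by
  haveI : Module (ZMod p) (Additive U) := AddCommGroup.zmodModule fun a => by
    show Additive.ofMul (a.toMul ^ p) = 0
    rw [hexp]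
    rfl
  let f : MulAut U →* Module.End (ZMod p) (Additive U) :=
    let F : MulAut U → (Additive U →ₗ[ZMod p] Additive U) := fun g =>
      (MonoidHom.toAdditive g.toMonoidHom).toZModLinearMap p
    have hF : ∀ (g : MulAut U) (a : Additive U), F g a = Additive.ofMul (g a.toMul) := fun g a => rfl
    { toFun := F
      map_one' := LinearMap.ext fun a => by rw [hF, MulAut.one_apply, Module.End.one_apply]; rfl
      map_mul' := fun g g' => LinearMap.ext fun a => by
        rw [hF, Module.End.mul_apply, hF, hF, MulAut.mul_apply]; rfl }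
  have hf : ∀ (g : MulAut U) (a : Additive U), f g a = Additive.ofMul (g a.toMul) := fun g a => rfl
  have hC : (f C - 1) * (f C - 1) = 0 := LinearMap.ext fun y => by
    have h : f C (y - f C y) = y - f C y := by
      rw [hf, hf, toMul_sub]
      exact congrArg Additive.ofMul (hquad y.toMul)
    rw [map_sub] at h
    simp only [Module.End.mul_apply, LinearMap.sub_apply, Module.End.one_apply, map_sub, LinearMap.zero_apply]
    rw [← neg_eq_zero]
    calc -(f C (f C y) - f C y - (f C y - y)) = f C y - f C (f C y) - (y - f C y) := by abel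
      _ = 0 := by rw [h, sub_self]
  have h := hk.apply_eq hp2 hpr hγσ hγ (f.comp φ) (f C) hC
    (fun w => by
      show f C * f (φ w) = f (φ (γ w)) * f C
      rw [← map_mul, hint, map_mul]) u
  refine MulEquiv.ext fun a => ?_
  have h' := LinearMap.congr_fun h (Additive.ofMul a)
  exact congrArg Additive.toMul h'

theorem Kind.commute_of_quadratic (hk : Kind σ r m) (hp2 : p ≠ 2) (hpr : p ≠ r) (ι : Q →* H) {γ : MulAut Q}
    (hγσ : ∀ u, γ (σ u) = σ (γ u)) {e : ℕ} (hγ : γ ^ (p ^ e) = 1) {R : Subgroup H} [R.Normal]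
    (hR : IsPGroup p R) {x c : H} (hx : x ∈ R) (hc : ∀ u, c * ι u * c⁻¹ = ι (γ u)) (V : Subgroup H) (hVn : V.Normal)
    (hVp : IsPGroup p V) (hq : ⁅⁅V, zpowers (x * c)⁆, zpowers (x * c)⁆ = ⊥) (u : Q) :
    ι (u⁻¹ * γ u) ∈ centralizer (V : Set H) := by
  induction hn : Nat.card V using Nat.strong_induction_on generalizing V with
  | _ n ih =>
  subst hn
  haveI := hVn
  rcases eq_or_ne V ⊥ with rfl | hVne
  · exact mem_centralizer_iff.2 fun v hv => by
      rw [SetLike.mem_coe, mem_bot] at hv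
      rw [hv, one_mul, mul_one]
  obtain ⟨T, ⟨hTn, hTV⟩, hmax⟩ := (Set.toFinite {T : Subgroup H | T.Normal ∧ T < V}).exists_maximal
    ⟨⊥, inferInstance, bot_lt_iff_ne_bot.2 hVne⟩
  haveI := hTn
  have hT : ι (u⁻¹ * γ u) ∈ centralizer (T : Set H) := by
    refine ih _ ?_ T hTn (hVp.to_le hTV.le) (eq_bot_iff.2 (le_trans ?_ hq.le)) rfl
    · exact lt_of_not_ge fun h => hTV.ne (eq_of_le_of_card_ge hTV.le h)
    · exact commutator_mono (commutator_mono hTV.le le_rfl) le_rfl
  let mk := QuotientGroup.mk' T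
  have hmks : Function.Surjective mk := QuotientGroup.mk'_surjective T
  set U := V.map mk with hUdef
  haveI hUn : U.Normal := hVn.map mk hmks
  have hUp : IsPGroup p U := hVp.map mk
  have hUne : U ≠ ⊥ := fun h => by
    rw [hUdef, Subgroup.map_eq_bot_iff, QuotientGroup.ker_mk'] at h
    exact hTV.not_ge h
  have hmin : ∀ W : Subgroup (H ⧸ T), W.Normal → W ≤ U → W ≠ ⊥ → U ≤ W := by
    intro W hW hWU hWne
    have hWn' : (W.comap mk).Normal := hW.comap mk
    have hTW : T ≤ W.comap mk := (QuotientGroup.ker_mk' T).ge.trans (MonoidHom.ker_le_comap _ _)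
    have hWV : W.comap mk ≤ V := by
      refine (comap_mono hWU).trans (le_of_eq ?_)
      rw [hUdef, comap_map_eq, QuotientGroup.ker_mk', sup_eq_left.2 hTV.le]
    by_contra hne
    have hlt : W.comap mk < V := lt_of_le_of_ne hWV fun h => hne (by rw [hUdef, ← h]; exact map_comap_le _ _)
    have h := hmax ⟨hWn', hlt⟩ hTW
    refine hWne (le_bot_iff.1 fun y hy => ?_)
    obtain ⟨z, rfl⟩ := hmks y
    exact mem_bot.2 ((QuotientGroup.eq_one_iff z).2 (h hy))
  -- `U` is central in the image of `R V`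
  set M := (R ⊔ V).map mk with hMdef
  haveI hMn : M.Normal := (inferInstance : (R ⊔ V).Normal).map mk hmks
  have hMp : IsPGroup p M := (hR.to_sup_of_normal_right hVp).map mk
  have hUM : U ≤ M := map_mono le_sup_right
  have hUC : U ≤ centralizer (M : Set (H ⧸ T)) := by
    refine (hmin (U ⊓ centralizer (M : Set (H ⧸ T))) inferInstance inf_le_left ?_).trans inf_le_right
    have hne : U.subgroupOf M ≠ ⊥ := by
      rw [Ne, subgroupOf_eq_bot, disjoint_iff, inf_eq_left.2 hUM]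
      exact hUne
    have h := PGroup.inf_center_ne_bot hMp (U.subgroupOf M) hne
    obtain ⟨z, hz, hz1⟩ := (bot_or_exists_ne_one _).resolve_left h
    intro hbot
    refine hz1 (Subtype.ext ?_)
    have hmem : (z : H ⧸ T) ∈ U ⊓ centralizer (M : Set (H ⧸ T)) :=
      ⟨hz.1, mem_centralizer_iff.2 fun y hy => congrArg Subtype.val (mem_center_iff.1 hz.2 ⟨y, hy⟩)⟩
    rw [hbot, mem_bot] at hmem
    exact hmem
  have hUab : ∀ a ∈ U, ∀ b ∈ U, a * b = b * a := fun a ha b hb =>
    mem_centralizer_iff.1 (hUC hb) a (hUM ha)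
  have hexp : ∀ a ∈ U, a ^ p = 1 := by
    let W : Subgroup (H ⧸ T) :=
      { carrier := {a | a ∈ U ∧ a ^ p = 1}
        one_mem' := ⟨one_mem U, one_pow p⟩
        mul_mem' := fun {a b} ha hb => ⟨mul_mem ha.1 hb.1, by
          rw [Commute.mul_pow (hUab a ha.1 b hb.1), ha.2, hb.2, one_mul]⟩
        inv_mem' := fun {a} ha => ⟨inv_mem ha.1, by rw [inv_pow, ha.2, inv_one]⟩ }
    have hWn : W.Normal := ⟨fun a ha g => ⟨hUn.conj_mem a ha.1 g, by rw [conj_pow, ha.2, mul_one, mul_inv_cancel]⟩⟩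
    have hWne : W ≠ ⊥ := by
      obtain ⟨k, hk'⟩ := hUp.exists_card_eq
      have hdvd : p ∣ Nat.card U := by
        rcases Nat.eq_zero_or_pos k with rfl | hpos
        · exact absurd (Subgroup.card_eq_one.1 (by rw [hk', pow_zero])) hUne
        · exact hk' ▸ dvd_pow_self p hpos.ne'
      obtain ⟨z, hz⟩ := exists_prime_orderOf_dvd_card' (G := U) p hdvd
      intro hbot
      have hzp : z ^ p = 1 := hz ▸ pow_orderOf_eq_one z
      have hzW : (z : H ⧸ T) ∈ W := ⟨z.2, congrArg Subtype.val hzp⟩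
      rw [hbot, mem_bot] at hzW
      rw [show z = 1 from Subtype.ext hzW, orderOf_one] at hz
      exact (Fact.out : p.Prime).ne_one hz.symm
    exact fun a ha => (hmin W hWn (fun y hy => hy.1) hWne ha).2
  -- the action
  letI : CommGroup U :=
    { (inferInstance : Group U) with mul_comm := fun a b => Subtype.ext (hUab a a.2 b b.2) }
  let act : H →* MulAut U := (MulAut.conjNormal (H := U)).comp mk
  have hactval : ∀ (h : H) (y : U), ((act h y : U) : H ⧸ T) = mk h * (y : H ⧸ T) * (mk h)⁻¹ := fun h y => rfl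
  have hxact : act x = 1 := MulEquiv.ext fun y => Subtype.ext (by
    rw [hactval, MulAut.one_apply,
      mem_centralizer_iff.1 (hUC y.2) (mk x) (mem_map_of_mem _ (mem_sup_left hx)), mul_inv_cancel_right])
  have hint : ∀ w, act c * act (ι w) = act (ι (γ w)) * act c := fun w => by
    rw [← map_mul, ← map_mul, ← hc w, inv_mul_cancel_right]
  have hquad : ∀ y : U, act c (y / act c y) = y / act c y := by
    have hca : act c = act (x * c) := by rw [map_mul, hxact, one_mul]
    rw [hca]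
    intro y
    refine Subtype.ext ?_
    obtain ⟨v, hv, hvy⟩ := y.2
    set a := x * c
    have hd : v * (a * v⁻¹ * a⁻¹) ∈ ⁅V, zpowers a⁆ := by
      rw [show v * (a * v⁻¹ * a⁻¹) = ⁅v, a⁆ by group]
      exact commutator_mem_commutator hv (mem_zpowers a)
    have h1 : ⁅v * (a * v⁻¹ * a⁻¹), a⁆ = 1 := by
      rw [← mem_bot, ← hq]
      exact commutator_mem_commutator hd (mem_zpowers a)
    rw [commutatorElement_eq_one_iff_mul_comm] at h1
    have hval : ((y / act a y : U) : H ⧸ T) = mk (v * (a * v⁻¹ * a⁻¹)) := by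
      rw [div_eq_mul_inv, Subgroup.coe_mul, Subgroup.coe_inv, hactval, ← hvy]
      simp only [map_mul, map_inv, mul_inv_rev, inv_inv, mul_assoc]
    rw [hactval, hval, ← map_mul, ← map_inv, ← map_mul, ← h1, mul_inv_cancel_right]
  have hfix := hk.apply_eq_aut hp2 hpr hγσ hγ (fun a => Subtype.ext (hexp _ a.2)) (act.comp ι) (act c) hquad
    (fun w => hint w) u
  -- back to `V`
  set k := u⁻¹ * γ u with hkdef
  set b := ι k with hb
  have hbU : ∀ y ∈ U, mk b * y = y * mk b := by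
    intro y hy
    have h : act b = 1 := by
      rw [hb, hkdef, map_mul, map_mul]
      have h2 : act (ι (γ u)) = act (ι u) := hfix
      rw [h2, ← map_mul, ← map_mul, inv_mul_cancel, map_one, map_one]
    have h' : mk b * y * (mk b)⁻¹ = y :=
      by rw [← hactval b ⟨y, hy⟩, h]; rfl
    rwa [mul_inv_eq_iff_eq_mul] at h'
  refine mem_centralizer_iff.2 fun v hv => ?_
  set t := b * v * b⁻¹ * v⁻¹ with ht
  have htT : t ∈ T := by
    refine (QuotientGroup.eq_one_iff t).1 ?_
    show mk t = 1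
    rw [ht, map_mul, map_mul, map_mul, map_inv, map_inv, hbU _ (mem_map_of_mem _ hv)]
    group
  have hcomm : b * t = t * b := (mem_centralizer_iff.1 hT t htT).symm
  have hiter : ∀ n : ℕ, b ^ n * v * (b ^ n)⁻¹ = t ^ n * v := by
    intro n
    induction n with
    | zero => simp
    | succ n ih =>
      calc b ^ (n + 1) * v * (b ^ (n + 1))⁻¹ = b * (b ^ n * v * (b ^ n)⁻¹) * b⁻¹ := by
            rw [pow_succ']; group
        _ = b * (t ^ n * v) * b⁻¹ := by rw [ih]
        _ = t ^ n * (b * v * b⁻¹) := by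
            rw [← mul_assoc b, (Commute.pow_right hcomm n).eq]; simp only [mul_assoc]
        _ = t ^ (n + 1) * v := by rw [pow_succ, mul_assoc (t ^ n) t v, show t * v = b * v * b⁻¹ by rw [ht, inv_mul_cancel_right]]
  obtain ⟨j, hj⟩ := hk.pGroup k
  have h1 := hiter (2 ^ j)
  rw [hb, ← map_pow, hj, map_one, one_mul, inv_one, mul_one, right_eq_mul] at h1
  obtain ⟨i, hi⟩ := hVp ⟨t, hTV.le htT⟩
  have hi' : t ^ p ^ i = 1 := congrArg Subtype.val hi
  have ht1 : t = 1 := orderOf_eq_one_iff.1 (Nat.eq_one_of_dvd_coprimes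
    ((((Nat.coprime_primes Nat.prime_two Fact.out).2 hp2.symm)).pow j i)
    (orderOf_dvd_of_pow_eq_one h1) (orderOf_dvd_of_pow_eq_one hi'))
  rw [ht, mul_inv_eq_one, mul_inv_eq_iff_eq_mul] at ht1
  exact ht1.symm

/-- An element of `P₀` commuting with `Q` modulo `R C` lies in `O_p` modulo `C`. -/
theorem mem_comap_pCore (P₀ : Sylow p H) (ι : Q →* H) {R C : Subgroup H} [R.Normal] [C.Normal]
    (hRP : R ≤ (P₀ : Subgroup H)) (hgen : ∀ h, ∃ d ∈ (P₀ : Subgroup H), ∃ u, h = d * ι u)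
    (hRQ : (R ⊔ ι.range).Normal) {a : H} (ha : a ∈ (P₀ : Subgroup H)) (hcomm : ∀ u, ⁅a, ι u⁆ ∈ R ⊔ C) :
    a ∈ (pCore p (H ⧸ C)).comap (QuotientGroup.mk' C) := by
  let π₀ := QuotientGroup.mk' (R ⊔ C)
  haveI := hRQ
  set N₀ := (R ⊔ ι.range) ⊔ C with hN₀
  haveI : (N₀.map π₀).Normal := Normal.map inferInstance _ (QuotientGroup.mk'_surjective _)
  set Kc := (centralizer (N₀.map π₀ : Set (H ⧸ (R ⊔ C)))).comap π₀ with hKc
  haveI hKn : Kc.Normal := inferInstance
  have hker : ∀ y ∈ R ⊔ C, π₀ y = 1 := fun y hy => (QuotientGroup.eq_one_iff y).2 hy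
  have hmemK : ∀ y, (∀ u, π₀ y * π₀ (ι u) = π₀ (ι u) * π₀ y) → y ∈ Kc := by
    intro y hy
    let S : Subgroup H := (centralizer ({π₀ y} : Set (H ⧸ (R ⊔ C)))).comap π₀
    have hS : N₀ ≤ S := by
      refine sup_le (sup_le (fun z hz => ?_) ?_) (fun z hz => ?_)
      · refine mem_centralizer_singleton_iff.2 ?_
        rw [hker z (mem_sup_left hz), one_mul, mul_one]
      · rintro _ ⟨u, rfl⟩
        exact mem_centralizer_singleton_iff.2 (hy u).symm
      · refine mem_centralizer_singleton_iff.2 ?_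
        rw [hker z (mem_sup_right hz), one_mul, mul_one]
    refine mem_centralizer_iff.2 ?_
    rintro _ ⟨z, hz, rfl⟩
    exact mem_centralizer_singleton_iff.1 (hS hz)
  set D := (P₀ : Subgroup H) ⊓ Kc with hD
  have hRD : R ≤ D := fun y hy => ⟨hRP hy, hmemK y fun u => by rw [hker y (mem_sup_left hy), one_mul, mul_one]⟩
  have haD : a ∈ D := ⟨ha, hmemK a fun u => by
    have h := hker _ (hcomm u)
    rw [map_commutatorElement, commutatorElement_eq_one_iff_mul_comm] at h
    exact h⟩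
  have hDC : (D ⊔ C).Normal := by
    refine normalizer_eq_top_iff.1 (top_le_iff.1 fun h _ => ?_)
    obtain ⟨d, hd, u, rfl⟩ := hgen h
    refine mul_mem (mem_normalizer_fintype fun y hy => ?_) (mem_normalizer_fintype fun y hy => ?_)
    · obtain ⟨s, hs, z, hz, rfl⟩ := mem_sup_of_normal_right.1 hy
      rw [show d * (s * z) * d⁻¹ = (d * s * d⁻¹) * (d * z * d⁻¹) by group]
      exact mul_mem (mem_sup_left (show d * s * d⁻¹ ∈ D from
          ⟨(P₀ : Subgroup H).mul_mem ((P₀ : Subgroup H).mul_mem hd hs.1) ((P₀ : Subgroup H).inv_mem hd),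
            hKn.conj_mem s hs.2 d⟩))
        (mem_sup_right ((inferInstance : C.Normal).conj_mem z hz d))
    · obtain ⟨s, hs, z, hz, rfl⟩ := mem_sup_of_normal_right.1 hy
      rw [show ι u * (s * z) * (ι u)⁻¹ = (ι u * s * (ι u)⁻¹ * s⁻¹) * s * (ι u * z * (ι u)⁻¹) by group]
      refine mul_mem (mul_mem ?_ (mem_sup_left hs)) (mem_sup_right ((inferInstance : C.Normal).conj_mem z hz _))
      have h1 : ι u * s * (ι u)⁻¹ * s⁻¹ ∈ R ⊔ C := by
        refine (QuotientGroup.eq_one_iff _).1 ?_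
        show π₀ (ι u * s * (ι u)⁻¹ * s⁻¹) = 1
        have h2 : π₀ (ι u) * π₀ s = π₀ s * π₀ (ι u) :=
          (mem_centralizer_iff.1 hs.2 (π₀ (ι u)) (mem_map_of_mem _ (mem_sup_left (mem_sup_right ⟨u, rfl⟩))))
        rw [map_mul, map_mul, map_mul, map_inv, map_inv, h2, mul_inv_cancel_right, mul_inv_cancel]
      exact sup_le_sup_right hRD C h1
  haveI : ((D ⊔ C).map (QuotientGroup.mk' C)).Normal := Normal.map hDC _ (QuotientGroup.mk'_surjective _)
  refine PCore.le_pCore (N := (D ⊔ C).map (QuotientGroup.mk' C)) ?_ (mem_map_of_mem _ (mem_sup_left haD))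
  rw [Subgroup.map_sup, (Subgroup.map_eq_bot_iff C).2 (QuotientGroup.ker_mk' C).ge, sup_bot_eq]
  exact (P₀.2.to_le inf_le_left).map _

/-- `Z(J(P₀))` is normal. -/
theorem Kind.centerThompson_normal (hk : Kind σ r m) (hgenQ : moved σ ⊤ = ⊤) (hp2 : p ≠ 2) (hpr : p ≠ r)
    (P₀ : Sylow p H) (ι : Q →* H) {R : Subgroup H} [hRn : R.Normal] (hRP : R ≤ (P₀ : Subgroup H))
    (hgen : ∀ h, ∃ d ∈ (P₀ : Subgroup H), ∃ u, h = d * ι u) (hRQ : (R ⊔ ι.range).Normal)
    (hdec : ∀ a ∈ (P₀ : Subgroup H), ∃ x ∈ R, ∃ c, a = x * c ∧ ∃ (γ : MulAut Q) (e : ℕ),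
      (∀ u, γ (σ u) = σ (γ u)) ∧ γ ^ (p ^ e) = 1 ∧ ∀ u, c * ι u * c⁻¹ = ι (γ u))
    (hfaith : ∀ k : Q, ι k ∈ centralizer (pCore p H : Set H) → k ∈ center Q) :
    (centerThompsonAOf (P₀ : Subgroup H)).Normal := by
  have hRp : IsPGroup p R := P₀.2.to_le hRP
  -- the images of the defects
  have hdef : ∀ (V : Subgroup H), V.Normal → IsPGroup p V → ∀ a ∈ (P₀ : Subgroup H),
      ⁅⁅V, zpowers a⁆, zpowers a⁆ = ⊥ → ∃ x ∈ R, ∃ c, a = x * c ∧ ∃ γ : MulAut Q,
        (∀ u, γ (σ u) = σ (γ u)) ∧ (∀ u, c * ι u * c⁻¹ = ι (γ u)) ∧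
          ∀ u, ι (u⁻¹ * γ u) ∈ centralizer (V : Set H) := by
    intro V hVn hVp a ha hq
    obtain ⟨x, hx, c, rfl, γ, e, hγσ, hγ, hc⟩ := hdec a ha
    exact ⟨x, hx, c, rfl, γ, hγσ, hc, fun u => hk.commute_of_quadratic hp2 hpr ι hγσ hγ hRp hx hc V hVn hVp hq u⟩
  have hcomm : ∀ (C : Subgroup H) [C.Normal] (x c : H) (γ : MulAut Q), x ∈ R →
      (∀ u, c * ι u * c⁻¹ = ι (γ u)) → (∀ u, ι (u⁻¹ * γ u) ∈ C) → ∀ u, ⁅x * c, ι u⁆ ∈ R ⊔ C := by
    intro C _ x c γ hx hc hγC u
    refine (QuotientGroup.eq_one_iff _).1 ?_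
    show QuotientGroup.mk' (R ⊔ C) ⁅x * c, ι u⁆ = 1
    rw [map_commutatorElement, map_mul,
      show QuotientGroup.mk' (R ⊔ C) x = 1 from (QuotientGroup.eq_one_iff x).2 (mem_sup_left hx), one_mul,
      ← map_commutatorElement, commutatorElement_def, hc, ← map_inv, ← map_mul]
    refine (QuotientGroup.eq_one_iff _).2 (mem_sup_right ?_)
    have h := (inferInstance : C.Normal).conj_mem _ (hγC u) (ι u)
    rw [← map_inv, ← map_mul, ← map_mul] at h
    rwa [show u * (u⁻¹ * γ u) * u⁻¹ = γ u * u⁻¹ by group] at h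
  have hst : Replacement.StableOn p (P₀ : Subgroup H) := by
    intro V hVn hVp a ha hq
    obtain ⟨x, hx, c, rfl, γ, -, hc, hC⟩ := hdef V hVn hVp a ha hq
    exact mem_comap_pCore P₀ ι hRP hgen hRQ ha (hcomm _ x c γ hx hc hC)
  set W := centerThompsonAOf (P₀ : Subgroup H) with hW
  have hWP : W ≤ (P₀ : Subgroup H) := inf_le_left.trans (PGroup.thompsonSubgroupAOf_le _)
  have hWab : IsMulCommutative W := by
    refine PGroup.isMulCommutative_of_forall fun a ha b hb => ?_
    exact mem_centralizer_iff.1 (Subgroup.mem_inf.1 hb).2 a (Subgroup.mem_inf.1 ha).1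
  have hWO : W ≤ pCore p H := by
    intro w hw
    have hnorm : (P₀ : Subgroup H) ≤ normalizer (W : Set H) := by
      intro g hg
      refine PGroup.mem_normalizer_of_map_conj_eq ?_
      rw [hW, ← Replacement.centerThompsonAOf_map_equiv, PGroup.map_conj_eq_of_mem_normalizer (le_normalizer hg)]
    have hq := Replacement.commutator_commutator_zpowers_eq_bot hWab ((PCore.pCore_le_sylow P₀).trans hnorm) hw
    obtain ⟨x, hx, c, rfl, γ, hγσ, hc, hC⟩ := hdef (pCore p H) inferInstance PCore.isPGroup_pCore w (hWP hw) hq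
    have hδ : ∀ u, u⁻¹ * γ u ∈ center Q := fun u => hfaith _ (hC u)
    have hγ1 : ∀ u, γ u = u := by
      have hle : moved σ ⊤ ≤ (γ.toMonoidHom).eqLocus (MonoidHom.id Q) := by
        refine moved_le_iff.2 fun w _ => ?_
        show γ (w⁻¹ * σ w) = w⁻¹ * σ w
        have hz := hδ w
        have hzσ : σ (w⁻¹ * γ w) = w⁻¹ * γ w := (hk.mem_center _).1 hz
        calc γ (w⁻¹ * σ w) = (w⁻¹ * γ w)⁻¹ * w⁻¹ * (σ w * σ (w⁻¹ * γ w)) := by
              rw [map_mul, map_inv, hγσ, ← map_mul, mul_inv_cancel_left]; group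
          _ = (w⁻¹ * γ w)⁻¹ * (w⁻¹ * σ w * (w⁻¹ * γ w)) := by rw [hzσ]; group
          _ = w⁻¹ * σ w := by rw [mem_center_iff.1 hz (w⁻¹ * σ w), inv_mul_cancel_left]
      exact fun u => hle (hgenQ.ge (mem_top u))
    have hmem := mem_comap_pCore (C := (⊥ : Subgroup H)) P₀ ι hRP hgen hRQ (hWP hw)
      (hcomm ⊥ x c γ hx hc fun u => by rw [hγ1, inv_mul_cancel, map_one]; exact one_mem _)
    rwa [PCore.comap_pCore_quotient _ IsPGroup.of_bot] at hmem
  rw [← inf_eq_right.2 hWO, hW, ← Replacement.sInf_isMaxAb]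
  refine Replacement.inf_normal P₀ hst _ (PGroup.exists_isMaxAb (P₀ : Subgroup H)) (fun A hA => hA.1)
    (fun A hA => hA.2.1) (fun U hU n hn A hA hAU => Replacement.isMaxAb_conj_of_stronglyClosed P₀
      (Replacement.isStronglyClosed_self _) hU hn hA hAU) ?_ _ inferInstance PCore.isPGroup_pCore
  intro B hBn hBp hB hU
  exact Replacement.exists_normalized_maxAb hp2 P₀.2 le_rfl (hBp.le_sylow_of_normal P₀)
    le_normalizer (by rw [normalizer_eq_top_iff.2 hBn]; exact le_top) hB hU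

end Cfsg.Agent.Flavell
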