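import Cfsg.Agent.Lib.Flavell.OvergroupGen.Basic
import Cfsg.Agent.Lib.Flavell.OvergroupGen.FixedStable

/-!
# No overgroup with `C_Q(X₀)` fixed

`Ov.false_of_fixed`: for an `Ov` with `X₀ = [P₀, σ]` and `[C_Q(X₀), σ] = 1` the subgroup `Z(J(P₀))` is normal in
`P₀ Q`; its normalizer is a proper invariant overgroup of `Q` with a larger Sylow `p`-subgroup.
-/

set_option autoImplicit false
set_option linter.unusedSectionVars false
set_option linter.style.haveILetI false

namespace Cfsg.Agent.Flavell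

open Subgroup Cfsg
open scoped commutatorElement

variable {G : Type*} [Group G] [Finite G] {σ : MulAut G} {r p : ℕ} {k : Type*} [Field k] {V : Type*}
  [AddCommGroup V] [Module k V] {ρ : Representation k G V} {τ : Module.End k V} [Fact p.Prime] [CharP k p]
  (hx : Cex ρ σ τ r p) [IsAlgClosed k] [FiniteDimensional k V] [Nontrivial V]

include hx

theorem Cex.prime_ne : p ≠ r := fun h => hx.mod.r_ne p ((CharP.cast_eq_zero_iff k p r).2 (h ▸ dvd_rfl))

/-- `[T, σ]` is of `Kind`. -/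
theorem Cex.kind_two (T : Sylow 2 G) (hT : Inv σ (T : Subgroup G)) :
    ∃ m, Kind (restr (inv_moved hT)) r m := by
  set Qg := moved σ (T : Subgroup G) with hQg
  obtain ⟨m, hm, hrm⟩ := hx.exists_fermat
  have hQ2 : IsPGroup 2 Qg := T.2.to_le (moved_le hT)
  have hndvd : ¬ p ∣ Nat.card Qg := fun hd => by
    obtain ⟨n, hn⟩ := hQ2.exists_card_eq
    rw [hn] at hd
    exact hx.p_ne_two ((Nat.prime_dvd_prime_iff_eq Fact.out Nat.prime_two).1
      ((Fact.out : p.Prime).dvd_of_dvd_pow hd))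
  have ha := hx.mod.act (inv_moved hT) hndvd
  have hinj := hx.mod.inj_restr Qg
  have hgen := moved_restr_top hx.mod.cop hT
  have := hQ2.isNilpotent
  exact ⟨m, hx.mod.cop.restr _, hrm, hm, hQ2, fun c => ha.mem_center_iff hinj hgen,
    fun u v => PGroup.mem_center_of_class_two (ha.commutator_le_center hinj hgen) u v,
    fun u => ha.sq_mem_center hinj hgen hQ2 (hx.mod.r_ne p) u,
    fun z hz => ha.sq_eq_one hinj hgen hQ2 (hx.mod.r_ne p) hz⟩

theorem Ov.false_of_fixed (hO : pCore 2 G ≤ center G) (T : Sylow 2 G) (hT : Inv σ (T : Subgroup G))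
    (O : Ov σ p (moved σ (T : Subgroup G)))
    (hA : moved σ (moved σ (T : Subgroup G) ⊓
      centralizer (moved σ ((O.P : Subgroup G) ⊓ O.K) : Set G)) = ⊥) : False := by
  classical
  haveI := Fact.mk Nat.prime_two
  obtain ⟨m, hk⟩ := hx.kind_two T hT
  have hcop := hx.mod.cop
  let Q := moved σ (T : Subgroup G)
  set K := O.K with hKdef
  set P₀ := (O.P : Subgroup G) ⊓ K with hP₀
  have hQ2 : IsPGroup 2 Q := T.2.to_le (moved_le hT)
  have hQσ : Inv σ Q := inv_moved hT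
  have hP₀K : P₀ ≤ K := inf_le_right
  have hP₀p : IsPGroup p P₀ := O.P.2.to_le inf_le_left
  have hP₀σ : Inv σ P₀ := O.inv_P.inf O.inv_K
  set R := pCoreOf p K with hR
  have hRσ : Inv σ R := inv_pCoreOf O.inv_K
  have hRp : IsPGroup p R := PCore.isPGroup_pCore.map _
  have hRK : R ≤ K := map_subtype_le _
  have hKR : K ≤ normalizer (R : Set G) := fun g hg => mem_normalizer_fintype fun a ha => by
    obtain ⟨b, hb, rfl⟩ := ha
    exact ⟨⟨g, hg⟩ * b * ⟨g, hg⟩⁻¹, (inferInstance : (pCore p K).Normal).conj_mem b hb _, rfl⟩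
  -- Sylow subgroups of `K`
  have hSyl : ∀ {S : Subgroup G}, P₀ ≤ S → S ≤ K → ¬ p ∣ (P₀.subgroupOf S).index := by
    intro S hPS hSK hd
    have h1 := (P₀.subgroupOf S).card_mul_index
    rw [Nat.card_congr (subgroupOfEquivOfLe hPS).toEquiv] at h1
    have h2 : (Nat.card S).factorization p ≤ (Nat.card K).factorization p :=
      (Nat.factorization_le_iff_dvd Nat.card_pos.ne' Nat.card_pos.ne').2 (card_dvd_of_le hSK) p
    rw [← O.card_inf, ← h1, Nat.factorization_mul Nat.card_pos.ne' index_ne_zero_of_finite,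
      Finsupp.add_apply] at h2
    have h3 := (Fact.out : p.Prime).factorization_pos_of_dvd index_ne_zero_of_finite hd
    change (Nat.card P₀).factorization p + _ ≤ (Nat.card P₀).factorization p at h2
    omega
  have hRP₀ : R ≤ P₀ := by
    let SK : Sylow p K := hP₀p.comap_subtype.toSylow (hSyl hP₀K le_rfl)
    rintro _ ⟨y, hy, rfl⟩
    exact PCore.pCore_le_sylow SK hy
  have hX₀ : moved σ P₀ ≤ R := hx.mem_pCoreOf_of_pGroup O.ne_top O.inv_K hP₀K hP₀p hP₀σ
  -- `R Q` is normal in `K`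
  set RQ := R ⊔ Q with hRQdef
  have hRQσ : Inv σ RQ := hRσ.sup hQσ
  have hRQK : RQ ≤ K := sup_le hRK O.le_K
  obtain ⟨S₂, hS₂, hQS₂⟩ := hcop.exists_sylow_in O.inv_K O.le_K hQ2 hQσ
  have hL : moved σ K ≤ RQ := by
    let SK : Sylow p K := hP₀p.comap_subtype.toSylow (hSyl hP₀K le_rfl)
    have e : (SK : Subgroup K).map K.subtype = P₀ := by
      show (P₀.subgroupOf K).map K.subtype = P₀
      rw [subgroupOf_map_subtype, inf_eq_left.2 hP₀K]
    refine hx.moved_le_of_sylows_in O.inv_K hRQσ S₂ hS₂ SK (e.symm ▸ hP₀σ) ?_ ?_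
    · rw [hx.moved_two_eq T hT (S₂.2.map _) hS₂ hQS₂]; exact le_sup_right
    · rw [e]; exact hX₀.trans le_sup_left
  have hQL : Q ≤ moved σ K := (hcop.moved_moved hT).ge.trans (moved_mono O.le_K)
  have hKRQ : K ≤ normalizer (RQ : Set G) := fun g hg => by
    refine mem_normalizer_fintype fun a ha => ?_
    have ha' : a ∈ R ⊔ moved σ K := sup_le le_sup_left (hQL.trans le_sup_right) ha
    refine sup_le le_sup_left hL (?_ : g * a * g⁻¹ ∈ R ⊔ moved σ K)
    rw [show g * a * g⁻¹ = MulAut.conj g a from rfl]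
    refine (sup_le (a := R) (b := moved σ K) (c := (R ⊔ moved σ K).comap (MulAut.conj g).toMonoidHom)
      (fun y hy => mem_sup_left ((mem_normalizer_iff.1 (hKR hg) y).1 hy))
      (fun y hy => mem_sup_right ((mem_normalizer_iff.1 (le_normalizer_moved K hg) y).1 hy))) ha'
  have hdisj : ∀ {y : G}, y ∈ R → y ∈ Q → y = 1 := fun ha hb => eq_one_of_mem_of_mem hx.p_ne_two hRp hQ2 ha hb
  have hmulRQ : ∀ {y : G}, y ∈ RQ → ∃ a ∈ R, ∃ b ∈ Q, y = a * b := fun {y} hy => by
    have h : y ∈ (RQ : Set G) := hy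
    rw [hRQdef, coe_mul_of_right_le_normalizer_left _ _ (O.le_K.trans hKR)] at h
    obtain ⟨a, ha, b, hb, rfl⟩ := h
    exact ⟨a, ha, b, hb, rfl⟩
  -- the group `S = P₀ Q`
  set S := P₀ ⊔ RQ with hSdef
  have hSK : S ≤ K := sup_le hP₀K hRQK
  have hP₀S : P₀ ≤ S := le_sup_left
  have hQS : Q ≤ S := le_sup_right.trans le_sup_right
  have hRS : R ≤ S := hRP₀.trans hP₀S
  have hSmul : ∀ s ∈ S, ∃ d ∈ P₀, ∃ u ∈ Q, s = d * u := fun s hs => by
    have h : s ∈ (S : Set G) := hs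
    rw [hSdef, coe_mul_of_left_le_normalizer_right _ _ (hP₀K.trans hKRQ)] at h
    obtain ⟨a, ha, b, hb, rfl⟩ := h
    obtain ⟨c, hc, d, hd, rfl⟩ := hmulRQ hb
    exact ⟨a * c, P₀.mul_mem ha (hRP₀ hc), d, hd, (mul_assoc _ _ _).symm⟩
  let PS : Sylow p S := hP₀p.comap_subtype.toSylow (hSyl hP₀S hSK)
  have hPSe : (PS : Subgroup S) = P₀.subgroupOf S := rfl
  let ι : Q →* S := Subgroup.inclusion hQS
  have hRSn : (R.subgroupOf S).Normal := normal_subgroupOf_of_le_normalizer (hSK.trans hKR)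
  have hRQn : (R.subgroupOf S ⊔ ι.range).Normal := by
    have e : ι.range = Q.subgroupOf S := by
      ext y
      exact ⟨fun ⟨w, hw⟩ => hw ▸ w.2, fun hy => ⟨⟨y, hy⟩, Subtype.ext rfl⟩⟩
    rw [e, ← subgroupOf_sup hRS hQS]
    exact normal_subgroupOf_of_le_normalizer (hSK.trans hKRQ)
  -- the decomposition of the elements of `P₀`
  have hdec : ∀ a ∈ (PS : Subgroup S), ∃ x ∈ R.subgroupOf S, ∃ c, a = x * c ∧ ∃ (γ : MulAut Q) (e : ℕ),
      (∀ u, γ (restr (inv_moved hT) u) = restr (inv_moved hT) (γ u)) ∧ γ ^ (p ^ e) = 1 ∧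
        ∀ u, c * ι u * c⁻¹ = ι (γ u) := by
    intro a ha
    have haP : (a : G) ∈ P₀ := ha
    obtain ⟨mv, hmv, c, hcP, hcf, hac⟩ := hcop.exists_mul_fixed hP₀σ haP
    -- a fixed element of `R Q` carries `Q` to its conjugate
    have hcK : c ∈ K := hP₀K hcP
    have hRQi : Inv (restr hRQσ) (Q.subgroupOf RQ) := inv_restr_subgroupOf hRQσ hQσ
    have hQi : ¬ 2 ∣ (Q.subgroupOf RQ).index := by
      intro hd
      obtain ⟨n, hn⟩ := hRp.exists_card_eq
      have hle : RQ = R ⊔ Q := rfl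
      have hdvd : (Q.subgroupOf RQ).index ∣ p ^ n := by
        rw [← hn]
        have h1 : Nat.card (R × Q) = Nat.card RQ := by
          refine Nat.card_eq_of_bijective (fun x => (⟨(x.1 : G) * x.2,
            RQ.mul_mem (mem_sup_left x.1.2) (mem_sup_right x.2.2)⟩ : RQ)) ⟨?_, ?_⟩
          · intro x y hxy
            have e : (x.1 : G) * x.2 = y.1 * y.2 := congrArg Subtype.val hxy
            have h2 : (y.1 : G)⁻¹ * x.1 = y.2 * (x.2 : G)⁻¹ := by
              rw [inv_mul_eq_iff_eq_mul, ← mul_assoc, ← e, mul_inv_cancel_right]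
            have h3 := hdisj (R.mul_mem (R.inv_mem y.1.2) x.1.2) (h2 ▸ Q.mul_mem y.2.2 (Q.inv_mem x.2.2))
            have h4 : (y.1 : G) = x.1 := inv_mul_eq_one.1 h3
            rw [h4] at e
            exact Prod.ext (Subtype.ext h4.symm) (Subtype.ext (mul_left_cancel e))
          · rintro ⟨y, hy⟩
            obtain ⟨a, ha, b, hb, rfl⟩ := hmulRQ hy
            exact ⟨(⟨a, ha⟩, ⟨b, hb⟩), rfl⟩
        have h3 := (Q.subgroupOf RQ).card_mul_index
        rw [Nat.card_congr (subgroupOfEquivOfLe (le_sup_right : Q ≤ RQ)).toEquiv, ← h1, Nat.card_prod,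
          mul_comm] at h3
        exact (Nat.eq_of_mul_eq_mul_right Nat.card_pos h3) ▸ dvd_rfl
      exact hx.p_ne_two ((Nat.prime_dvd_prime_iff_eq Nat.prime_two Fact.out).1
        (Nat.prime_two.dvd_of_dvd_pow (hd.trans hdvd))).symm
    let SQ : Sylow 2 RQ := hQ2.comap_subtype.toSylow hQi
    have hcQ : Q.map (MulAut.conj c).toMonoidHom ≤ RQ := by
      rintro _ ⟨y, hy, rfl⟩
      exact (mem_normalizer_iff.1 (hKRQ hcK) y).1 (mem_sup_right hy)
    set Q' := Q.map (MulAut.conj c).toMonoidHom with hQ'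
    have hQ'2 : IsPGroup 2 Q' := hQ2.map _
    have hcard : Nat.card (Q'.subgroupOf RQ) = Nat.card (SQ : Subgroup RQ) := by
      rw [Nat.card_congr (subgroupOfEquivOfLe hcQ).toEquiv, hQ', card_map_of_injective (MulAut.conj c).injective]
      exact (Nat.card_congr (subgroupOfEquivOfLe (le_sup_right : Q ≤ RQ)).toEquiv).symm
    have hQi' : ¬ 2 ∣ (Q'.subgroupOf RQ).index := by
      intro hd
      refine hQi ?_
      have e1 := (Q'.subgroupOf RQ).card_mul_index
      have e2 := (Q.subgroupOf RQ).card_mul_index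
      rw [hcard, ← e2] at e1
      rwa [Nat.eq_of_mul_eq_mul_left Nat.card_pos e1] at hd
    let SQ' : Sylow 2 RQ := hQ'2.comap_subtype.toSylow hQi'
    obtain ⟨d, hdf, hdc⟩ := (hcop.restr hRQσ).sylow_conj SQ SQ' hRQi
      (inv_restr_subgroupOf hRQσ (hQσ.map_conj hcf))
    obtain ⟨r₀, hr₀, q₀, hq₀, hd⟩ := hmulRQ d.2
    have hdf' : σ (d : G) = d := congrArg Subtype.val hdf
    have hr₀f : σ r₀ = r₀ := by
      have h1 : σ r₀ * σ q₀ = r₀ * q₀ := by rw [← map_mul, ← hd]; exact hdf'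
      have h2 : r₀⁻¹ * σ r₀ = q₀ * (σ q₀)⁻¹ := by
        rw [inv_mul_eq_iff_eq_mul, ← mul_assoc, ← h1, mul_inv_cancel_right]
      have h3 : r₀⁻¹ * σ r₀ = 1 := hdisj (R.mul_mem (R.inv_mem hr₀) (hRσ r₀ hr₀))
        (h2 ▸ Q.mul_mem hq₀ (Q.inv_mem (hQσ q₀ hq₀)))
      exact (inv_mul_eq_one.1 h3).symm
    set c' := r₀⁻¹ * c with hc'
    have hc'f : σ c' = c' := by rw [hc', map_mul, map_inv, hr₀f, hcf]
    have hc'P : c' ∈ P₀ := P₀.mul_mem (P₀.inv_mem (hRP₀ hr₀)) hcP
    have hnorm : ∀ u ∈ Q, c' * u * c'⁻¹ ∈ Q := by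
      intro u hu
      have hy : (⟨c * u * c⁻¹, hcQ ⟨u, hu, rfl⟩⟩ : RQ) ∈ (SQ' : Subgroup RQ) := ⟨u, hu, rfl⟩
      have hy' : ((d : G)⁻¹ * (c * u * c⁻¹) * d) ∈ Q := (hdc _).1 hy
      rw [hd] at hy'
      have := Q.mul_mem (Q.mul_mem hq₀ hy') (Q.inv_mem hq₀)
      rwa [show q₀ * ((r₀ * q₀)⁻¹ * (c * u * c⁻¹) * (r₀ * q₀)) * q₀⁻¹ = c' * u * c'⁻¹ by
        rw [hc']; group] at this
    have hc'N : c' ∈ normalizer (Q : Set G) := mem_normalizer_fintype hnorm
    let γ : MulAut Q :=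
      { toFun := fun u => ⟨c' * u * c'⁻¹, hnorm u u.2⟩
        invFun := fun u => ⟨c'⁻¹ * u * c', by
          have := (mem_normalizer_iff''.1 hc'N u).1 u.2
          exact this⟩
        left_inv := fun u => Subtype.ext (show c'⁻¹ * (c' * u * c'⁻¹) * c' = (u : G) by group)
        right_inv := fun u => Subtype.ext (show c' * (c'⁻¹ * u * c') * c'⁻¹ = (u : G) by group)
        map_mul' := fun u v => Subtype.ext (show c' * (u * v) * c'⁻¹ = c' * u * c'⁻¹ * (c' * v * c'⁻¹) by group) }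
    obtain ⟨e, he⟩ := hP₀p ⟨c', hc'P⟩
    have he' : c' ^ p ^ e = 1 := congrArg Subtype.val he
    have hγn : ∀ (n : ℕ) (u : Q), ((γ ^ n) u : G) = c' ^ n * u * (c' ^ n)⁻¹ := by
      intro n
      induction n with
      | zero => intro u; simp
      | succ n ih =>
        intro u
        rw [pow_succ', MulAut.mul_apply]
        show c' * ((γ ^ n) u : G) * c'⁻¹ = _
        rw [ih, pow_succ']; group
    have hxR : c * mv * c⁻¹ * r₀ ∈ R :=
      R.mul_mem ((mem_normalizer_iff.1 (hKR hcK) mv).1 (hX₀ hmv)) hr₀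
    refine ⟨⟨_, hRS hxR⟩, hxR, ⟨c', hP₀S hc'P⟩, Subtype.ext ?_, γ, e, ?_, ?_, ?_⟩
    · show (a : G) = c * mv * c⁻¹ * r₀ * c'
      rw [hac, hc']; group
    · intro u
      refine Subtype.ext ?_
      show c' * σ u * c'⁻¹ = σ (c' * u * c'⁻¹)
      rw [map_mul, map_mul, map_inv, hc'f]
    · refine MulEquiv.ext fun u => Subtype.ext ?_
      rw [hγn, he', one_mul, inv_one, mul_one]
      rfl
    · exact fun u => rfl
  have hfaith : ∀ w : Q, ι w ∈ centralizer (pCore p S : Set S) → w ∈ center Q := by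
    intro w hw
    haveI := hRSn
    have hle : R.subgroupOf S ≤ pCore p S := PCore.le_pCore (hRp.comap_subtype)
    have hwC : (w : G) ∈ Q ⊓ centralizer (moved σ P₀ : Set G) := ⟨w.2, mem_centralizer_iff.2 fun y hy =>
      congrArg Subtype.val (mem_centralizer_iff.1 hw ⟨y, hRS (hX₀ hy)⟩ (hle (hX₀ hy)))⟩
    exact (hk.mem_center w).2 (Subtype.ext (moved_eq_bot_iff.1 hA hwC))
  haveI := hRSn
  have hWn := hk.centerThompson_normal (H := S) (moved_restr_top hcop hT) hx.p_ne_two hx.prime_ne PS ι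
    (R := R.subgroupOf S) (fun y hy => hRP₀ hy)
    (fun h => by
      obtain ⟨d, hd, u, hu, e⟩ := hSmul h h.2
      exact ⟨⟨d, hP₀S hd⟩, hd, ⟨u, hu⟩, Subtype.ext e⟩) hRQn hdec hfaith
  -- the subgroup in `G`
  set W := centerThompsonAOf P₀ with hW
  have hWe : W = (centerThompsonAOf (PS : Subgroup S)).map S.subtype := by
    rw [← Replacement.centerThompsonAOf_map_injOn S.subtype (fun y _ h => Subtype.ext h), hPSe,
      subgroupOf_map_subtype, inf_eq_left.2 hP₀S]
  have hWP : W ≤ P₀ := inf_le_left.trans (PGroup.thompsonSubgroupAOf_le _)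
  have hQW : Q ≤ normalizer (W : Set G) := fun u hu => mem_normalizer_fintype fun y hy => by
    rw [hWe] at hy ⊢
    obtain ⟨z, hz, rfl⟩ := hy
    exact ⟨_, hWn.conj_mem z hz ⟨u, hQS hu⟩, rfl⟩
  have hWσ : Inv σ W := by
    intro y hy
    have e : P₀.map σ.toMonoidHom = P₀ := eq_of_le_of_card_ge
      (by rintro _ ⟨z, hz, rfl⟩; exact hP₀σ z hz) (card_map_of_injective σ.injective).ge
    have h := Replacement.centerThompsonAOf_map_equiv σ P₀
    rw [e] at h
    rw [hW, h]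
    exact mem_map_of_mem _ hy
  have hWne : W ≠ ⊥ := by
    have hP₀ne : P₀ ≠ ⊥ := fun h => O.moved_ne (by
      show moved σ P₀ = ⊥
      rw [h]; exact moved_eq_bot_iff.2 bot_le)
    haveI : Nontrivial P₀ := (nontrivial_iff_ne_bot P₀).2 hP₀ne
    haveI := hP₀p.center_nontrivial
    obtain ⟨z, hz⟩ := exists_ne (1 : center P₀)
    intro hbot
    refine hz (Subtype.ext (Subtype.ext ?_))
    have hzW : (((z : P₀) : G)) ∈ W := by
      rw [hW, ← Replacement.sInf_isMaxAb, mem_sInf]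
      intro A hA
      have hzc : ∀ y ∈ A, y * ((z : P₀) : G) = ((z : P₀) : G) * y := fun y hy =>
        congrArg Subtype.val (mem_center_iff.1 z.2 ⟨y, hA.1 hy⟩)
      have hA' : A ⊔ zpowers ((z : P₀) : G) ≤ P₀ := sup_le hA.1 (zpowers_le.2 (z : P₀).2)
      have hab : IsMulCommutative (A ⊔ zpowers ((z : P₀) : G) : Subgroup G) := by
        rw [← le_centralizer_iff_isMulCommutative]
        refine sup_le (le_centralizer_iff.1 (sup_le ?_ ?_)) (le_centralizer_iff.1 (sup_le ?_ ?_))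
        · exact le_centralizer_iff_isMulCommutative.2 hA.2.1
        · exact zpowers_le.2 (mem_centralizer_iff.2 hzc)
        · exact le_centralizer_iff.1 (zpowers_le.2 (mem_centralizer_iff.2 hzc))
        · exact le_centralizer_iff_isMulCommutative.2 inferInstance
      exact (eq_of_le_of_card_ge le_sup_left (hA.2.2 _ hA' hab)).ge (mem_sup_right (mem_zpowers _))
    rw [hbot, mem_bot] at hzW
    exact hzW
  set N := normalizer (W : Set G) with hN
  have hNne : N ≠ ⊤ := fun h => hWne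
    (hx.eq_bot_of_normal (normalizer_eq_top_iff.1 h) hWσ (hP₀p.to_le hWP))
  -- a larger `p`-subgroup in `N`
  have hlt : P₀ < (O.P : Subgroup G) ⊓ normalizer (P₀ : Set G) := by
    refine lt_of_le_of_ne (le_inf inf_le_left le_normalizer) fun h => ?_
    have hPK : (O.P : Subgroup G) ≤ K := by
      by_contra hne
      have hlt' : P₀.subgroupOf (O.P : Subgroup G) < ⊤ := by
        rw [lt_top_iff_ne_top, Ne, subgroupOf_eq_top]
        exact fun h' => hne (h'.trans hP₀K)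
      have := O.P.2.isNilpotent
      obtain ⟨⟨x, hxP⟩, hxN, hxR⟩ :=
        SetLike.exists_of_lt (Group.normalizerCondition_of_isNilpotent _ hlt')
      rw [← subgroupOf_normalizer_eq inf_le_left] at hxN
      exact hxR (h.ge ⟨hxP, hxN⟩ : x ∈ P₀)
    refine O.ne_top (top_le_iff.1 (hx.moved_top ▸ hcop.moved_le_of_moved_sylows O.inv_K fun q _ => ?_))
    rcases eq_or_ne q 2 with rfl | hq2
    · exact ⟨T, hT, O.le_K⟩
    rcases eq_or_ne q p with rfl | hqp
    · exact ⟨O.P, O.inv_P, (moved_le O.inv_P).trans hPK⟩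
    obtain ⟨Sq, hSq⟩ := hcop.exists_invariant_sylow q
    exact ⟨Sq, hSq, (moved_eq_bot_iff.2 (hx.mod.le_fixS_of_odd hqp hq2 hSq Sq.2)).le.trans bot_le⟩
  set U := (O.P : Subgroup G) ⊓ normalizer (P₀ : Set G) with hU
  have hUN : U ≤ N := fun g hg => PGroup.mem_normalizer_of_map_conj_eq (by
    rw [hW, ← Replacement.centerThompsonAOf_map_equiv, PGroup.map_conj_eq_of_mem_normalizer hg.2])
  have hle := O.maximal N hWσ.normalizer hNne hQW P₀ (hlt.le.trans hUN) hP₀σ hP₀p O.moved_ne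
  have hmono := (Nat.factorization_le_iff_dvd Nat.card_pos.ne' Nat.card_pos.ne').2 (card_dvd_of_le hUN) p
  rw [← O.card_inf] at hle
  obtain ⟨a, ha⟩ := hP₀p.exists_card_eq
  obtain ⟨b, hb⟩ := (O.P.2.to_le (inf_le_left : U ≤ (O.P : Subgroup G))).exists_card_eq
  have hcard : Nat.card P₀ < Nat.card U :=
    lt_of_not_ge fun h => hlt.ne (eq_of_le_of_card_ge hlt.le h)
  change _ ≤ (Nat.card P₀).factorization p at hle
  rw [ha, (Fact.out : p.Prime).factorization_pow, Finsupp.single_eq_same] at hle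
  rw [hb, (Fact.out : p.Prime).factorization_pow, Finsupp.single_eq_same] at hmono
  rw [ha, hb, Nat.pow_lt_pow_iff_right (Fact.out : p.Prime).one_lt] at hcard
  omega

end Cfsg.Agent.Flavell
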