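import Cfsg.Agent.Lib.Flavell.Basics

/-!
# Translates of a subgroup trivial on `[V, D]`

* `exists_transversal`: a transversal of a fixed-point-free permutation of prime period;
* `Mod.exists_sub_eq_of_fixed`: an element of prime order `p` acting freely on `D` is free on `[V, D]`;
* `Mod.moved_le_normalizer_of_translate`: the independence of the translates.
-/

set_option autoImplicit false

namespace Cfsg.Agent.Flavell

open Subgroup

theorem exists_transversal {X : Type*} [Fintype X] (φ : Equiv.Perm X) {p : ℕ} (hp : 0 < p) (hφ : φ ^ p = 1)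
    (hfree : ∀ j, 0 < j → j < p → ∀ x, (φ ^ j) x ≠ x) :
    ∃ s : Finset X, Function.Bijective fun a : Fin p × s => (φ ^ (a.1 : ℕ)) a.2 := by
  classical
  set e := Fintype.equivFin X
  have hmod : ∀ n : ℕ, φ ^ n = φ ^ (n % p) := fun n => by
    conv_lhs => rw [← Nat.div_add_mod n p, pow_add, pow_mul, hφ, one_pow, one_mul]
  refine ⟨Finset.univ.filter fun x => ∀ j, e x ≤ e ((φ ^ j) x), ?_, fun y => ?_⟩
  · rintro ⟨i, x⟩ ⟨j, y⟩ h
    have hmin : ∀ z : {z // z ∈ Finset.univ.filter fun x => ∀ j, e x ≤ e ((φ ^ j) x)}, ∀ n,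
        e (z : X) ≤ e ((φ ^ n) z) := fun z n => (Finset.mem_filter.1 z.2).2 n
    have h' : (φ ^ (i : ℕ)) (x : X) = (φ ^ (j : ℕ)) (y : X) := h
    have hx : (φ ^ ((p - j : ℕ) + i)) (x : X) = y := by
      rw [pow_add, Equiv.Perm.mul_apply, h', ← Equiv.Perm.mul_apply, ← pow_add, Nat.sub_add_cancel j.2.le, hφ,
        Equiv.Perm.one_apply]
    have hy : (φ ^ ((p - i : ℕ) + j)) (y : X) = x := by
      rw [pow_add, Equiv.Perm.mul_apply, ← h', ← Equiv.Perm.mul_apply, ← pow_add, Nat.sub_add_cancel i.2.le, hφ,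
        Equiv.Perm.one_apply]
    have hxy : (x : X) = y := e.injective (le_antisymm (by have := hmin x ((p - j : ℕ) + i); rwa [hx] at this)
      (by have := hmin y ((p - i : ℕ) + j); rwa [hy] at this))
    refine Prod.ext (Fin.ext ?_) (Subtype.ext hxy)
    rw [hxy] at hx
    by_contra hne
    refine hfree (((p - j : ℕ) + i) % p) (Nat.pos_of_ne_zero fun h0 => ?_) (Nat.mod_lt _ hp) y ?_
    · obtain ⟨c, hc⟩ := Nat.dvd_of_mod_eq_zero h0
      have hi := i.2
      have hj := j.2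
      show False
      change ¬ (i : ℕ) = (j : ℕ) at hne
      rcases c with _ | _ | c
      · rw [mul_zero] at hc; omega
      · rw [zero_add, mul_one] at hc; omega
      · have h2 : p * 2 ≤ p * (c + 2) := Nat.mul_le_mul_left p (by omega)
        generalize p * (c + 2) = m at hc h2
        omega
    · rw [← hmod]; exact hx
  · obtain ⟨j, -, hj⟩ := Finset.exists_min_image (Finset.range p) (fun n => e ((φ ^ n) y))
      ⟨0, Finset.mem_range.2 hp⟩
    have hle : ∀ n, e ((φ ^ j) y) ≤ e ((φ ^ n) y) := fun n => by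
      rw [hmod n]; exact hj _ (Finset.mem_range.2 (Nat.mod_lt _ hp))
    refine ⟨⟨⟨(p * j - j) % p, Nat.mod_lt _ hp⟩, ⟨(φ ^ j) y, Finset.mem_filter.2 ⟨Finset.mem_univ _, fun n => ?_⟩⟩⟩, ?_⟩
    · rw [← Equiv.Perm.mul_apply, ← pow_add]; exact hle _
    · show (φ ^ ((p * j - j) % p)) ((φ ^ j) y) = y
      rw [← hmod, ← Equiv.Perm.mul_apply, ← pow_add, Nat.sub_add_cancel (Nat.le_mul_of_pos_left j hp), pow_mul, hφ,
        one_pow, Equiv.Perm.one_apply]

variable {G : Type*} [Group G] [Finite G] {k : Type*} [Field k] {V : Type*} [AddCommGroup V] [Module k V]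
  {ρ : Representation k G V} {σ : MulAut G} {τ : Module.End k V} {r p : ℕ} [Fact p.Prime] [CharP k p]

/-- `[V, D]`. -/
def vmoved (ρ : Representation k G V) (D : Subgroup G) : Submodule k V :=
  ⨆ d : D, LinearMap.range (ρ d - 1)

omit [Finite G] in
theorem sub_mem_vmoved {D : Subgroup G} {d : G} (hd : d ∈ D) (v : V) : ρ d v - v ∈ vmoved ρ D :=
  Submodule.mem_iSup_of_mem (⟨d, hd⟩ : D) ⟨v, rfl⟩

omit [Finite G] [Fact p.Prime] [CharP k p] in
theorem sum_apply_vmoved {D : Subgroup G} [Fintype D] {v : V} (hv : v ∈ vmoved ρ D) :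
    (∑ d : D, ρ d v) = 0 := by
  induction hv using Submodule.iSup_induction' with
  | mem d v hv =>
    obtain ⟨w, rfl⟩ := hv
    simp only [LinearMap.sub_apply, Module.End.one_apply, map_sub, Finset.sum_sub_distrib]
    rw [sub_eq_zero]
    conv_rhs => rw [← Equiv.sum_comp (Equiv.mulRight d)]
    exact Finset.sum_congr rfl fun x _ => by
      rw [Equiv.coe_mulRight, Subgroup.coe_mul, map_mul, Module.End.mul_apply]
  | zero => simp
  | add a b _ _ ha hb => simp only [map_add, Finset.sum_add_distrib, ha, hb, add_zero]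

omit [Fact p.Prime] in
/-- `[V, D]` meets the fixed vectors trivially. -/
theorem eq_zero_of_vmoved_of_fixed {D : Subgroup G} (hD : ¬ p ∣ Nat.card D) {v : V} (hv : v ∈ vmoved ρ D)
    (hfix : ∀ d ∈ D, ρ d v = v) : v = 0 := by
  classical
  haveI := Fintype.ofFinite D
  have h := sum_apply_vmoved hv
  rw [Finset.sum_congr rfl fun (d : D) _ => hfix d d.2, Finset.sum_const, Finset.card_univ,
    ← Nat.cast_smul_eq_nsmul k, ← Nat.card_eq_fintype_card, smul_eq_zero] at h
  exact h.resolve_left fun h0 => hD ((CharP.cast_eq_zero_iff k p _).1 h0)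

omit [Finite G] [Fact p.Prime] [CharP k p] in
theorem map_vmoved {D : Subgroup G} {g : G} (hg : g ∈ normalizer (D : Set G)) {v : V} (hv : v ∈ vmoved ρ D) :
    ρ g v ∈ vmoved ρ D := by
  induction hv using Submodule.iSup_induction' with
  | mem d v hv =>
    obtain ⟨w, rfl⟩ := hv
    rw [LinearMap.sub_apply, Module.End.one_apply, map_sub, ← Module.End.mul_apply, ← map_mul,
      show g * (d : G) = (g * d * g⁻¹) * g by group, map_mul, Module.End.mul_apply]
    exact sub_mem_vmoved ((mem_normalizer_iff.1 hg d).1 d.2) _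
  | zero => simp
  | add a b _ _ ha hb => rw [map_add]; exact add_mem ha hb

omit [Fact p.Prime] in
/-- An element of order dividing `p` acting freely on `D` is free on `[V, D]`. -/
theorem exists_sub_eq_of_fixed {D : Subgroup G} (hp : p.Prime) {f : G} (hfp : f ^ p = 1)
    (hfn : f ∈ normalizer (D : Set G)) (hfree : ∀ d ∈ D, f * d = d * f → d = 1) {v : V}
    (hv : v ∈ vmoved ρ D) (hfv : ρ f v = v) : ∃ w ∈ vmoved ρ D, ρ f w - w = v := by
  classical
  haveI := Fintype.ofFinite D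
  have := Fact.mk hp
  have hconj : ∀ d ∈ D, f * d * f⁻¹ ∈ D := fun d hd => (mem_normalizer_iff.1 hfn d).1 hd
  have hconj' : ∀ d ∈ D, f⁻¹ * d * f ∈ D := fun d hd => by
    have := (mem_normalizer_iff.1 (inv_mem hfn) d).1 hd
    simpa using this
  let φ : Equiv.Perm {d : D // d ≠ 1} :=
    { toFun := fun d => ⟨⟨f * (d.1 : G) * f⁻¹, hconj _ d.1.2⟩, fun e => d.2 (Subtype.ext (by
        have := congrArg Subtype.val e; simpa using this))⟩
      invFun := fun d => ⟨⟨f⁻¹ * (d.1 : G) * f, hconj' _ d.1.2⟩, fun e => d.2 (Subtype.ext (by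
        have h : f⁻¹ * (d.1 : G) * f = 1 := congrArg Subtype.val e
        calc (d.1 : G) = f * (f⁻¹ * (d.1 : G) * f) * f⁻¹ := by group
          _ = 1 := by rw [h]; group))⟩
      left_inv := fun d => Subtype.ext (Subtype.ext (by simp [mul_assoc]))
      right_inv := fun d => Subtype.ext (Subtype.ext (by simp [mul_assoc])) }
  have hφn : ∀ (n : ℕ) (d : {d : D // d ≠ 1}), (((φ ^ n) d).1 : G) = f ^ n * (d.1 : G) * (f ^ n)⁻¹ := by
    intro n
    induction n with
    | zero => intro d; simp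
    | succ n ih =>
      intro d
      rw [pow_succ', Equiv.Perm.mul_apply]
      show f * (((φ ^ n) d).1 : G) * f⁻¹ = _
      rw [ih, pow_succ']; group
  obtain ⟨s, hs⟩ := exists_transversal φ hp.pos (Equiv.ext fun d => Subtype.ext (Subtype.ext (by
      rw [hφn, hfp]; simp))) fun j hj0 hjp d e => d.2 <| by
    refine Subtype.ext (hfree _ d.1.2 ?_)
    have h1 : f ^ j * (d.1 : G) = (d.1 : G) * f ^ j := by
      have h := congrArg (fun x : {d : D // d ≠ 1} => (x.1 : G)) e
      simp only [hφn] at h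
      calc f ^ j * (d.1 : G) = f ^ j * (d.1 : G) * (f ^ j)⁻¹ * f ^ j := by group
        _ = _ := by rw [h]
    obtain ⟨n, -, hn⟩ := Nat.exists_mul_mod_eq_one_of_coprime (n := j) (k := p)
      ((hp.coprime_iff_not_dvd.2 (Nat.not_dvd_of_pos_of_lt hj0 hjp)).symm) hp.one_lt
    have h2 : f = (f ^ j) ^ n := by
      rw [← pow_mul, ← Nat.div_add_mod (j * n) p, hn, pow_add, pow_mul, hfp, one_pow, one_mul, pow_one]
    rw [h2]
    exact (Commute.pow_left h1 n).eq
  set θ : V := ∑ x : s, ρ ((x : {d : D // d ≠ 1}).1 : G) v with hθ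
  have hθm : θ ∈ vmoved ρ D := Submodule.sum_mem _ fun x _ => by
    rw [← sub_add_cancel (ρ ((x : {d : D // d ≠ 1}).1 : G) v) v]
    exact add_mem (sub_mem_vmoved (x : {d : D // d ≠ 1}).1.2 v) hv
  have hfn' : ∀ (n : ℕ) (u : V), u ∈ vmoved ρ D → ρ (f ^ n) u ∈ vmoved ρ D := fun n u hu =>
    map_vmoved (pow_mem hfn n) hu
  have hinvfix : ∀ n : ℕ, ρ (f ^ n)⁻¹ v = v := by
    intro n
    have h1 : ρ (f ^ n) v = v := by
      induction n with
      | zero => simp
      | succ n ih => rw [pow_succ, map_mul, Module.End.mul_apply, hfv, ih]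
    conv_lhs => rw [← h1]
    rw [← Module.End.mul_apply, ← map_mul, inv_mul_cancel, map_one, Module.End.one_apply]
  have hsum : ∑ j : Fin p, ρ (f ^ (j : ℕ)) θ = -v := by
    have h1 : ∑ j : Fin p, ρ (f ^ (j : ℕ)) θ = ∑ d : {d : D // d ≠ 1}, ρ (d.1 : G) v := by
      rw [← Equiv.sum_comp (Equiv.ofBijective _ hs), Fintype.sum_prod_type]
      refine Finset.sum_congr rfl fun j _ => ?_
      rw [map_sum]
      refine Finset.sum_congr rfl fun x _ => ?_
      rw [Equiv.ofBijective_apply, hφn]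
      simp only [map_mul, Module.End.mul_apply, hinvfix]
    rw [h1]
    have h2 := sum_apply_vmoved hv
    rw [← Finset.add_sum_erase _ _ (Finset.mem_univ (1 : D)), OneMemClass.coe_one, map_one,
      Module.End.one_apply] at h2
    rw [← Finset.sum_subtype (Finset.univ.erase (1 : D)) (by simp) fun d : D => ρ (d : G) v]
    exact eq_neg_of_add_eq_zero_right h2
  refine ⟨-∑ j : Fin p, ∑ i ∈ Finset.range j, ρ (f ^ i) θ,
    neg_mem (Submodule.sum_mem _ fun j _ => Submodule.sum_mem _ fun i _ => hfn' i θ hθm), ?_⟩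
  have hstep : ∀ n : ℕ, ρ f (∑ i ∈ Finset.range n, ρ (f ^ i) θ) - ∑ i ∈ Finset.range n, ρ (f ^ i) θ =
      ρ (f ^ n) θ - θ := by
    intro n
    induction n with
    | zero => simp
    | succ n ih =>
      rw [Finset.sum_range_succ, map_add, ← Module.End.mul_apply (ρ f) (ρ (f ^ n)), ← map_mul, ← pow_succ']
      linear_combination (norm := module) ih
  rw [map_neg, map_sum]
  have h3 : ∑ j : Fin p, (ρ f (∑ i ∈ Finset.range (j : ℕ), ρ (f ^ i) θ) - ∑ i ∈ Finset.range (j : ℕ), ρ (f ^ i) θ)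
      = -v := by
    simp only [hstep, Finset.sum_sub_distrib, hsum, Finset.sum_const, Finset.card_univ, Fintype.card_fin]
    rw [← Nat.cast_smul_eq_nsmul k, CharP.cast_eq_zero, zero_smul, sub_zero]
  rw [Finset.sum_sub_distrib] at h3
  linear_combination (norm := module) -h3

variable (hM : Mod ρ σ τ r) [FiniteDimensional k V]

include hM

/-- Independence: translates of a subgroup trivial on `[V, D]` by moved elements. -/
theorem Mod.moved_le_normalizer_of_translate {D F U Y : Subgroup G} (hDfix : D ≤ fixS σ)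
    (hD : ¬ p ∣ Nat.card D) (hDne : D ≠ ⊥) (hUD : ∀ u ∈ U, ∀ d ∈ D, u * d = d * u)
    (hUV : ∀ u ∈ U, ∀ v ∈ vmoved ρ D, ρ u v = v) (hUσ : Inv σ U)
    (hFfix : F ≤ fixS σ) (hF : IsPGroup p F) (hFn : F ≤ normalizer (D : Set G))
    (hFfree : ∀ f ∈ F, f ≠ 1 → ∀ d ∈ D, f * d = d * f → d = 1)
    (hUF : ∀ u ∈ U, ∀ f ∈ F, u * f = f * u) (hY : Inv σ Y)
    (hz : ∀ z ∈ Y, ∀ u ∈ U, ∃ u' ∈ U, ∃ f ∈ F, z * u * z⁻¹ = u' * f) : moved σ Y ≤ normalizer (U : Set G) := by
  classical
  refine moved_le_iff.2 fun y hy => ?_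
  by_contra hne
  -- a vector of `[V, D]` fixed by `F`
  haveI : Finite F := inferInstance
  letI : MulAction F (vmoved ρ D) :=
    { smul := fun f v => ⟨ρ (f : G) v, map_vmoved (hFn f.2) v.2⟩
      one_smul := fun v => Subtype.ext (by show ρ ((1 : F) : G) (v : V) = v; simp)
      mul_smul := fun a b v => Subtype.ext (by
        show ρ ((a * b : F) : G) (v : V) = ρ (a : G) (ρ (b : G) v); simp) }
  haveI : Module (ZMod p) (vmoved ρ D) := AddCommGroup.zmodModule fun x => by
    rw [← Nat.cast_smul_eq_nsmul k, CharP.cast_eq_zero, zero_smul]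
  have hne0 : ∃ v : vmoved ρ D, v ≠ 0 := by
    obtain ⟨d, hd, hd1⟩ := (bot_or_exists_ne_one D).resolve_left hDne
    obtain ⟨u, hu⟩ : ∃ u, ρ d u - u ≠ 0 := by
      by_contra! h
      exact hd1 (hM.faith (LinearMap.ext fun u => by rw [map_one]; exact sub_eq_zero.1 (h u)))
    exact ⟨⟨_, sub_mem_vmoved hd u⟩, fun e => hu (congrArg Subtype.val e)⟩
  obtain ⟨v₀, hv₀⟩ := hne0
  obtain ⟨⟨v, hv⟩, -, hv0, hvF⟩ := BlockLow.exists_fixed_of_isPGroup (Q := F) hF
    (fun f a b => Subtype.ext (map_add (ρ (f : G)) (a : V) (b : V))) hv₀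
  have hvF' : ∀ f ∈ F, ρ f v = v := fun f hf => congrArg Subtype.val (hvF ⟨f, hf⟩)
  -- powers of `τ`
  have hτρ : ∀ (g : G) (i : ℕ), τ ^ i * ρ g = ρ ((σ ^ i) g) * τ ^ i := by
    intro g i
    induction i with
    | zero => simp
    | succ i ih => rw [pow_succ', mul_assoc, ih, ← mul_assoc, hM.comm, mul_assoc, pow_succ' σ, MulAut.mul_apply]
  have hfixpow : ∀ {g : G}, σ g = g → ∀ i : ℕ, (σ ^ i) g = g := fun {g} hg i => by
    induction i with
    | zero => rfl
    | succ i ih => rw [pow_succ, MulAut.mul_apply, hg, ih]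
  have hτmem : ∀ (i : ℕ), ∀ w ∈ vmoved ρ D, (τ ^ i) w ∈ vmoved ρ D := by
    intro i w hw
    induction hw using Submodule.iSup_induction' with
    | mem d w hw =>
      obtain ⟨u, rfl⟩ := hw
      rw [LinearMap.sub_apply, Module.End.one_apply, map_sub, ← Module.End.mul_apply, hτρ,
        hfixpow (hDfix d.2), Module.End.mul_apply]
      exact sub_mem_vmoved d.2 _
    | zero => simp
    | add a b _ _ ha hb => rw [map_add]; exact add_mem ha hb
  have hwF : ∀ i : ℕ, ∀ f ∈ F, ρ f ((τ ^ i) v) = (τ ^ i) v := fun i f hf => by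
    conv_rhs => rw [← hvF' f hf]
    rw [← Module.End.mul_apply, ← Module.End.mul_apply, hτρ, hfixpow (hFfix hf)]
  -- translates land in the fixed vectors of `D`
  have hkey : ∀ z ∈ Y, z ∉ normalizer (U : Set G) → ∀ w ∈ vmoved ρ D, (∀ f ∈ F, ρ f w = w) →
      ∀ d ∈ D, ρ d (ρ z w) = ρ z w := by
    intro z hzY hzN w hw hwF d hd
    obtain ⟨u₀, hu₀, hu₀'⟩ : ∃ u ∈ U, z⁻¹ * u * z ∉ U := by
      by_contra! hall
      refine hzN (inv_inv z ▸ inv_mem (mem_normalizer_fintype fun u hu => ?_))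
      rw [SetLike.mem_coe, inv_inv]
      exact hall u hu
    obtain ⟨u₁, hu₁, f, hf, hzu⟩ := hz z⁻¹ (inv_mem hzY) u₀ hu₀
    rw [inv_inv] at hzu
    have hf1 : f ≠ 1 := fun e => hu₀' (by rw [hzu, e, mul_one]; exact hu₁)
    obtain ⟨n, hn⟩ : p ∣ orderOf f := by
      obtain ⟨e, he⟩ := hF ⟨f, hf⟩
      have h : orderOf f ∣ p ^ e := orderOf_dvd_of_pow_eq_one (by simpa using congrArg Subtype.val he)
      obtain ⟨j, -, hj⟩ := (Nat.dvd_prime_pow Fact.out).1 h
      rcases Nat.eq_zero_or_pos j with rfl | hj0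
      · exact absurd (orderOf_eq_one_iff.1 (by rw [hj, pow_zero])) hf1
      · rw [hj]; exact dvd_pow_self p hj0.ne'
    have hn0 : 0 < n := Nat.pos_of_ne_zero fun e => (orderOf_pos f).ne' (by rw [hn, e, mul_zero])
    have hn1 : f ^ n ≠ 1 := fun e => by
      have := Nat.le_of_dvd hn0 (orderOf_dvd_of_pow_eq_one e)
      rw [hn] at this
      nlinarith [(Fact.out : p.Prime).two_le]
    have hfn : (f ^ n) ^ p = 1 := by rw [← pow_mul, mul_comm, ← hn, pow_orderOf_eq_one]
    have he : z⁻¹ * u₀ ^ n * z = u₁ ^ n * f ^ n := by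
      rw [← (show Commute u₁ f from hUF u₁ hu₁ f hf).mul_pow, ← hzu]
      simpa using (conj_pow (a := z⁻¹) (b := u₀) (i := n)).symm
    obtain ⟨w', hw', hw'eq⟩ := exists_sub_eq_of_fixed (Fact.out : p.Prime) hfn
      (pow_mem (hFn hf) n) (hFfree _ (pow_mem hf n) hn1) hw (hwF _ (pow_mem hf n))
    have h1 : ρ (z⁻¹ * u₀ ^ n * z) w' = ρ (f ^ n) w' := by
      rw [he, map_mul, Module.End.mul_apply, hUV _ (pow_mem hu₁ n) _ (map_vmoved (pow_mem (hFn hf) n) hw')]
    have h2 : ρ z w = ρ (u₀ ^ n) (ρ z w') - ρ z w' := by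
      rw [← hw'eq, map_sub, ← h1, ← Module.End.mul_apply (ρ (u₀ ^ n)), ← map_mul, ← Module.End.mul_apply (ρ z),
        ← map_mul]
      congr 2
      congr 1
      group
    rw [h2, map_sub, ← Module.End.mul_apply (ρ d) (ρ (u₀ ^ n)), ← map_mul, ← hUD _ (pow_mem hu₀ n) d hd, map_mul,
      Module.End.mul_apply]
    have h3 := hUV _ (pow_mem hu₀ n) _ (sub_mem_vmoved hd (ρ z w'))
    rw [map_sub] at h3
    linear_combination (norm := module) h3
  -- the sum of the translates
  have hsum := HallHigman.sum_pow_apply_eq_zero τ hM.pow hM.fpf (ρ y v)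
  have h := congrArg (ρ y⁻¹) hsum
  rw [map_sum, map_zero, Finset.sum_eq_add_sum_sdiff_singleton_of_mem (Finset.mem_range.2 hM.cop.prime.pos), add_comm] at h
  have h0 : ρ y⁻¹ ((τ ^ 0) (ρ y v)) = v := by
    rw [pow_zero, Module.End.one_apply, ← Module.End.mul_apply, ← map_mul, inv_mul_cancel, map_one,
      Module.End.one_apply]
  rw [h0] at h
  refine hv0 (Subtype.ext (eq_zero_of_vmoved_of_fixed (p := p) hD hv fun d hd => ?_))
  show ρ d v = v
  have hveq := eq_neg_of_add_eq_zero_right h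
  refine (congrArg (ρ d) hveq).trans (Eq.trans ?_ hveq.symm)
  rw [map_neg]
  congr 1
  rw [map_sum]
  refine Finset.sum_congr rfl fun i hi => ?_
  rw [Finset.mem_sdiff, Finset.mem_range, Finset.mem_singleton] at hi
  rw [← Module.End.mul_apply (τ ^ i) (ρ y), hτρ, Module.End.mul_apply, ← Module.End.mul_apply (ρ y⁻¹), ← map_mul]
  refine hkey _ (mul_mem (inv_mem hy) (hY.pow_mem i hy)) ?_ _ (hτmem i v hv) (hwF i) d hd
  -- `σ ^ i` moves the coset of `y`
  intro hmem
  have hN : Inv σ (normalizer (U : Set G)) := hUσ.normalizer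
  obtain ⟨n, -, hn⟩ := Nat.exists_mul_mod_eq_one_of_coprime
    ((hM.cop.prime.coprime_iff_not_dvd.2 (Nat.not_dvd_of_pos_of_lt (Nat.pos_of_ne_zero hi.2) hi.1)).symm)
    hM.cop.prime.one_lt
  have hall : ∀ j : ℕ, y⁻¹ * (σ ^ (i * j)) y ∈ normalizer (U : Set G) := by
    intro j
    induction j with
    | zero => simp
    | succ j ih =>
      have h2 := hN.pow_mem (i * j) hmem
      rw [map_mul, map_inv, ← MulAut.mul_apply, ← pow_add] at h2
      rw [show i * (j + 1) = i * j + i by ring]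
      have := mul_mem ih h2
      simpa [mul_assoc] using this
  have := hall n
  rw [← Nat.div_add_mod (i * n) r, hn, pow_add, pow_mul, hM.cop.pow_eq, one_pow, one_mul, pow_one] at this
  exact hne this

end Cfsg.Agent.Flavell
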