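import Cfsg.Agent.Lib.Flavell.OvergroupGen.Basic
import Cfsg.Agent.Lib.Flavell.OvergroupGen.Translate
import Cfsg.Agent.Lib.Flavell.Commutant
import Cfsg.Agent.Lib.Balance.CharP
import Cfsg.Agent.Lib.Coprime.Commutator

/-!
# An overgroup whose moved `p`-part has a moved centralizer in `[T, σ]`

With `X₀ = [P ∩ K, σ]`, `A = [C_Q(X₀), σ] ≠ 1`, `D = [A, A]`:

* `Ov.centralizer_facts`: `D` is fixed, central in `[K, σ]`, normalised by the fixed elements of `K`, and
  `X₀` is trivial on `[V, D]`;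
* `Ov.normalizer_X₀_le`, `Ov.moved_le_X₀`: `N(X₀) ≤ K`, and moved `p`-parts over `X₀` and `d ∈ D` lie in `X₀`;
* `Ov.false_of_moved`: this is impossible.
-/

set_option autoImplicit false

namespace Cfsg.Agent.Flavell

open Subgroup Cfsg
open scoped commutatorElement

variable {G : Type*} [Group G] [Finite G] {σ : MulAut G} {r p : ℕ} [Fact p.Prime] {Q : Subgroup G}

/-- `[P ∩ K, σ]`. -/
def Ov.X₀ (O : Ov σ p Q) : Subgroup G := moved σ ((O.P : Subgroup G) ⊓ O.K)

/-- `[C_Q(X₀), σ]`. -/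
def Ov.A (O : Ov σ p Q) : Subgroup G := moved σ (Q ⊓ centralizer (O.X₀ : Set G))

/-- `[A, A]`. -/
def Ov.D (O : Ov σ p Q) : Subgroup G := ⁅O.A, O.A⁆

variable {k : Type*} [Field k] {V : Type*} [AddCommGroup V] [Module k V] {ρ : Representation k G V}
  {τ : Module.End k V} [CharP k p] (hx : Cex ρ σ τ r p)
  [IsAlgClosed k] [FiniteDimensional k V] [Nontrivial V]

omit [Finite G] in
theorem inv_map_conj_mem {S : Subgroup G} {c : G} (hc : c ∈ normalizer (S : Set G)) :
    S.map (MulAut.conj c).toMonoidHom = S := by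
  ext x
  refine ⟨?_, fun hx => ⟨c⁻¹ * x * c, ?_, by simp [MulAut.conj_apply, mul_assoc]⟩⟩
  · rintro ⟨y, hy, rfl⟩
    exact (mem_normalizer_iff.1 hc y).1 hy
  · simpa using (mem_normalizer_iff.1 (inv_mem hc) x).1 hx

/-- An element normalising a group and one of its subgroups normalises what they define. -/
theorem fixed_mem_normalizer_inf_centralizer {A B : Subgroup G} {c : G}
    (hA : c ∈ normalizer (A : Set G)) (hB : c ∈ normalizer (B : Set G)) :
    c ∈ normalizer ((A ⊓ centralizer (B : Set G) : Subgroup G) : Set G) := by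
  refine mem_normalizer_fintype fun x hx' => ⟨(mem_normalizer_iff.1 hA x).1 hx'.1, ?_⟩
  refine mem_centralizer_iff.2 fun b hb => ?_
  have hb' : c⁻¹ * b * c ∈ B := by simpa using (mem_normalizer_iff.1 (inv_mem hB) b).1 hb
  have h := mem_centralizer_iff.1 hx'.2 _ hb'
  calc b * (c * x * c⁻¹) = c * ((c⁻¹ * b * c) * x) * c⁻¹ := by group
    _ = c * (x * (c⁻¹ * b * c)) * c⁻¹ := by rw [h]
    _ = c * x * c⁻¹ * b := by group

theorem mem_normalizer_commutator {S : Subgroup G} {c : G} (hc : c ∈ normalizer (S : Set G)) :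
    c ∈ normalizer ((⁅S, S⁆ : Subgroup G) : Set G) := by
  refine mem_normalizer_fintype fun x hx' => ?_
  have h : ⁅S, S⁆.map (MulAut.conj c).toMonoidHom = ⁅S, S⁆ := by
    rw [map_commutator, inv_map_conj_mem hc]
  exact h.le (mem_map_of_mem _ hx')

variable (T : Sylow 2 G) (hT : Inv σ (T : Subgroup G)) (O : Ov σ p (moved σ (T : Subgroup G)))

omit [Fact p.Prime] in
theorem inv_pCoreOf' {K : Subgroup G} (hK : Inv σ K) : Inv σ (pCoreOf p K) := by
  rintro _ ⟨y, hy, rfl⟩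
  exact ⟨restr hK y, characteristic_iff_map_le.1 inferInstance (restr hK) (mem_map_of_mem _ hy), rfl⟩

theorem Ov.isPGroup_P₀ : IsPGroup p ((O.P : Subgroup G) ⊓ O.K : Subgroup G) := O.P.2.to_le inf_le_left

theorem Ov.isPGroup_X₀ : IsPGroup p O.X₀ :=
  (O.isPGroup_P₀ T).to_le (Flavell.moved_le (O.inv_P.inf O.inv_K))

theorem Ov.inv_X₀ : Inv σ O.X₀ := inv_moved (O.inv_P.inf O.inv_K)

theorem Ov.pCore_le_P₀ : pCoreOf p O.K ≤ (O.P : Subgroup G) ⊓ O.K := by
  set P₀ := (O.P : Subgroup G) ⊓ O.K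
  obtain ⟨U, hPU⟩ := (show IsPGroup p (P₀.subgroupOf O.K) from (O.isPGroup_P₀ T).comap_subtype).exists_le_sylow
  have hU : P₀ = (U : Subgroup O.K).map O.K.subtype := by
    refine eq_of_le_of_card_ge (fun x hx => ⟨⟨x, hx.2⟩, hPU hx, rfl⟩) (le_of_eq ?_)
    obtain ⟨a, ha⟩ := (O.isPGroup_P₀ T).exists_card_eq
    rw [card_map_of_injective (subtype_injective _), U.card_eq_multiplicity, ← O.card_inf, ha,
      (Fact.out : p.Prime).factorization_pow, Finsupp.single_eq_same]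
  rw [hU]
  exact map_mono (PCore.pCore_le_sylow U)

include hx

theorem Ov.moved_X₀ : moved σ O.X₀ = O.X₀ := hx.mod.cop.moved_moved (O.inv_P.inf O.inv_K)

/-- The moved part of an invariant `p`-subgroup of `K` lies in `X₀`. -/
theorem Ov.moved_le_of_le {R : Subgroup G} (hR : R ≤ O.K) (hRσ : Inv σ R) (hRp : IsPGroup p R) :
    moved σ R ≤ O.X₀ :=
  (hx.mod.cop.moved_moved hRσ).ge.trans
    (moved_mono ((hx.mem_pCoreOf_of_pGroup O.ne_top O.inv_K hR hRp hRσ).trans (O.pCore_le_P₀ T)))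

theorem Ov.L_ne_top : moved σ O.K ≠ ⊤ := fun h => O.ne_top (top_le_iff.1 (h ▸ Flavell.moved_le O.inv_K))

/-- `X = O_p([K, σ])`. -/
theorem Ov.X₀_le_X : O.X₀ ≤ pCoreOf p (moved σ O.K) :=
  (O.moved_X₀ hx T).ge.trans (hx.mem_pCoreOf_of_pGroup (O.L_ne_top hx T) (inv_moved O.inv_K)
    (moved_mono inf_le_right) (O.isPGroup_X₀ T) (O.inv_X₀ T))

theorem Ov.K_le_normalizer_X : O.K ≤ normalizer (pCoreOf p (moved σ O.K) : Set G) :=
  (le_normalizer_moved O.K).trans (Balance.normalizer_le_normalizer_core _)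

theorem Ov.moved_X : moved σ (pCoreOf p (moved σ O.K)) = O.X₀ :=
  le_antisymm (O.moved_le_of_le hx T ((map_subtype_le _).trans (Flavell.moved_le O.inv_K))
    (inv_pCoreOf' (inv_moved O.inv_K)) (PCore.isPGroup_pCore.map _))
    ((O.moved_X₀ hx T).ge.trans (moved_mono (O.X₀_le_X hx T)))

theorem Ov.X_le_normalizer_X₀ : pCoreOf p (moved σ O.K) ≤ normalizer (O.X₀ : Set G) := by
  rw [← O.moved_X hx T]
  exact le_normalizer_moved _

theorem Ov.fixed_mem_normalizer_X₀ {c : G} (hc : c ∈ O.K) (hcf : σ c = c) :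
    c ∈ normalizer (O.X₀ : Set G) := by
  rw [← O.moved_X hx T]
  exact fixed_mem_normalizer_moved hcf (O.K_le_normalizer_X hx T hc)

theorem Ov.X₀_ne_bot : O.X₀ ≠ ⊥ := O.moved_ne

theorem Cex.normalizer_ne_top_of_pGroup {R : Subgroup G} (hR : IsPGroup p R) (hRσ : Inv σ R) (hne : R ≠ ⊥) :
    normalizer (R : Set G) ≠ ⊤ :=
  fun h => hne (hx.eq_bot_of_normal (normalizer_eq_top_iff.1 h) hRσ hR)

include hT

/-- `[K, σ] = X₀ ⊔ [T, σ]`. -/
theorem Ov.moved_K : moved σ O.K = O.X₀ ⊔ moved σ (T : Subgroup G) := by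
  haveI := Fact.mk Nat.prime_two
  refine le_antisymm ?_ (sup_le (moved_mono inf_le_right)
    ((hx.mod.cop.moved_moved hT).ge.trans (moved_mono O.le_K)))
  obtain ⟨S, hS, hQS⟩ := hx.mod.cop.exists_sylow_in O.inv_K O.le_K (T.2.to_le (Flavell.moved_le hT)) (inv_moved hT)
  obtain ⟨U, hU, -⟩ := hx.mod.cop.exists_sylow_in (q := p) O.inv_K (inf_le_right : (O.P : Subgroup G) ⊓ O.K ≤ O.K)
    (O.isPGroup_P₀ T) (O.inv_P.inf O.inv_K)
  refine hx.moved_le_of_sylows_in O.inv_K ((O.inv_X₀ T).sup (inv_moved hT)) S hS U hU ?_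
    ((O.moved_le_of_le hx T (map_subtype_le _) hU (U.2.map _)).trans le_sup_left)
  rw [hx.moved_two_eq T hT (S.2.map _) hS hQS]
  exact le_sup_right

/-- Fixed elements of `K` normalise `[T, σ]` up to fixed elements of `[K, σ]`. -/
theorem Ov.exists_fixed_mem_normalizer {c : G} (hc : c ∈ O.K) (hcf : σ c = c) :
    ∃ y ∈ moved σ O.K, σ y = y ∧ y⁻¹ * c ∈ normalizer (moved σ (T : Subgroup G) : Set G) := by
  haveI := Fact.mk Nat.prime_two
  set L := moved σ O.K with hL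
  have hLσ : Inv σ L := inv_moved O.inv_K
  have hQp : IsPGroup 2 (moved σ (T : Subgroup G)) := T.2.to_le (Flavell.moved_le hT)
  have hQσ : Inv σ (moved σ (T : Subgroup G)) := inv_moved hT
  have hQL : (moved σ (T : Subgroup G)) ≤ L := (hx.mod.cop.moved_moved hT).ge.trans (moved_mono O.le_K)
  set Q' := (moved σ (T : Subgroup G)).map (MulAut.conj c).toMonoidHom with hQ'
  have hQ'L : Q' ≤ L := by
    rintro _ ⟨z, hz, rfl⟩
    exact (mem_normalizer_iff.1 (le_normalizer_moved O.K hc) z).1 (hQL hz)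
  obtain ⟨S₀, hS₀, hQS₀⟩ := hx.mod.cop.exists_sylow_in hLσ hQL hQp hQσ
  obtain ⟨S₁, hS₁, hQS₁⟩ := hx.mod.cop.exists_sylow_in hLσ hQ'L (hQp.map _) (hQσ.map_conj hcf)
  have hS₀' : Inv (restr hLσ) (S₀ : Subgroup L) := fun x hx' => by
    obtain ⟨y, hy, e⟩ := hS₀ _ (mem_map_of_mem _ hx')
    rwa [show restr hLσ x = y from Subtype.ext e.symm]
  have hS₁' : Inv (restr hLσ) (S₁ : Subgroup L) := fun x hx' => by
    obtain ⟨y, hy, e⟩ := hS₁ _ (mem_map_of_mem _ hx')
    rwa [show restr hLσ x = y from Subtype.ext e.symm]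
  obtain ⟨y, hyf, hy⟩ := (hx.mod.cop.restr hLσ).sylow_conj S₀ S₁ hS₀' hS₁'
  have hyσ : σ (y : G) = y := congrArg Subtype.val hyf
  have e : (S₁ : Subgroup L).map L.subtype =
      ((S₀ : Subgroup L).map L.subtype).map (MulAut.conj (y : G)).toMonoidHom := by
    ext x
    constructor
    · rintro ⟨z, hz, rfl⟩
      exact ⟨((y⁻¹ * z * y : L) : G), mem_map_of_mem _ ((hy z).1 hz), by simp [MulAut.conj_apply, mul_assoc]⟩
    · rintro ⟨_, ⟨z, hz, rfl⟩, rfl⟩
      refine ⟨y * z * y⁻¹, (hy _).2 (by rw [show y⁻¹ * (y * z * y⁻¹) * y = z by group]; exact hz), ?_⟩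
      simp [MulAut.conj_apply]
  have heq : Q' = (moved σ (T : Subgroup G)).map (MulAut.conj (y : G)).toMonoidHom := by
    refine eq_of_le_of_card_ge ?_ ?_
    · rw [hQ']
      conv_lhs => rw [← hx.mod.cop.moved_moved hT, ← moved_map_conj hcf]
      refine (moved_mono hQS₁).trans ?_
      rw [e, moved_map_conj hyσ, hx.moved_two_eq T hT (S₀.2.map _) hS₀ hQS₀]
    · rw [hQ', card_map_of_injective (MulAut.conj (y : G)).injective, card_map_of_injective (MulAut.conj c).injective]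
  refine ⟨y, y.2, hyσ, mem_normalizer_fintype fun z hz => ?_⟩
  obtain ⟨w, hw, hwe⟩ := heq.le (mem_map_of_mem (MulAut.conj c).toMonoidHom hz)
  have hwe' : (y : G) * w * (y : G)⁻¹ = c * z * c⁻¹ := hwe
  rw [show (y : G)⁻¹ * c * z * ((y : G)⁻¹ * c)⁻¹ = (y : G)⁻¹ * (c * z * c⁻¹) * y by group, ← hwe']
  simpa [mul_assoc] using hw

/-- `A` is a moved 2-subgroup of `[T, σ]` centralising `X₀`. -/
theorem Ov.A_facts : Inv σ O.A ∧ O.A ≤ moved σ (T : Subgroup G) ∧ O.A ≤ centralizer (O.X₀ : Set G) ∧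
    moved σ O.A = O.A := by
  have hC : Inv σ (moved σ (T : Subgroup G) ⊓ centralizer (O.X₀ : Set G)) :=
    (inv_moved hT).inf (O.inv_X₀ T).centralizer
  exact ⟨inv_moved hC, (Flavell.moved_le hC).trans inf_le_left, (Flavell.moved_le hC).trans inf_le_right,
    hx.mod.cop.moved_moved hC⟩

/-- `A` centralises `X`. -/
theorem Ov.A_le_centralizer_X : O.A ≤ centralizer (pCoreOf p (moved σ O.K) : Set G) := by
  haveI := Fact.mk Nat.prime_two
  set X := pCoreOf p (moved σ O.K) with hX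
  have hXσ : Inv σ X := inv_pCoreOf' (inv_moved O.inv_K)
  have hXp : IsPGroup p X := PCore.isPGroup_pCore.map _
  refine moved_le_iff.2 fun a ha => mem_centralizer_iff.2 fun x hx' => ?_
  have hC : ∀ {b}, b ∈ centralizer (O.X₀ : Set G) → ∀ y ∈ O.X₀, Commute b y := fun hb y hy =>
    (mem_centralizer_iff.1 hb y hy).symm
  set e := a⁻¹ * σ a with he
  have heC : e ∈ centralizer (O.X₀ : Set G) := mul_mem (inv_mem ha.2) ((O.inv_X₀ T).centralizer a ha.2)
  obtain ⟨m, hm, c, hcX, hcf, rfl⟩ := hx.mod.cop.exists_mul_fixed hXσ hx'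
  rw [O.moved_X hx T] at hm
  suffices hce : Commute e c from ((hce.mul_right (hC heC m hm))).symm.eq
  set c₁ := a * c * a⁻¹ with hc₁
  have hc₁X : c₁ ∈ X := (mem_normalizer_iff.1 (O.K_le_normalizer_X hx T (O.le_K ha.1)) c).1 hcX
  set x₁ := c₁⁻¹ * σ c₁ with hx₁
  have hx₁X : x₁ ∈ O.X₀ := O.moved_X hx T ▸ mem_moved hc₁X
  have hce : e * c * e⁻¹ = c * x₁ := by
    have h1 : σ c₁ = σ a * c * (σ a)⁻¹ := by rw [hc₁, map_mul, map_mul, map_inv, hcf]
    have h2 : a⁻¹ * x₁ * a = x₁ := by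
      rw [mul_assoc, ← (hC ha.2 x₁ hx₁X).eq, inv_mul_cancel_left]
    calc e * c * e⁻¹ = a⁻¹ * (σ a * c * (σ a)⁻¹) * a := by rw [he]; group
      _ = a⁻¹ * (c₁ * x₁) * a := by rw [← h1, hx₁, mul_inv_cancel_left]
      _ = c * (a⁻¹ * x₁ * a) := by rw [hc₁]; group
      _ = c * x₁ := by rw [h2]
  have hpow : ∀ n : ℕ, e ^ n * c * (e ^ n)⁻¹ = c * x₁ ^ n := by
    intro n
    induction n with
    | zero => simp
    | succ n ih =>
      rw [show e ^ (n + 1) * c * (e ^ (n + 1))⁻¹ = e * (e ^ n * c * (e ^ n)⁻¹) * e⁻¹ by rw [pow_succ']; group,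
        ih, show e * (c * x₁ ^ n) * e⁻¹ = (e * c * e⁻¹) * (e * x₁ ^ n * e⁻¹) by group, hce,
        ((hC heC x₁ hx₁X).pow_right n).eq, mul_inv_cancel_right, mul_assoc, ← pow_succ']
  have heT : e ∈ moved σ (T : Subgroup G) := mul_mem (inv_mem ha.1) (inv_moved hT a ha.1)
  obtain ⟨j, hj⟩ := (T.2.to_le (Flavell.moved_le hT)) ⟨e, heT⟩
  have hj' : e ^ 2 ^ j = 1 := congrArg Subtype.val hj
  have h3 := hpow (2 ^ j)
  rw [hj', one_mul, inv_one, mul_one, left_eq_mul] at h3
  have hx1 : x₁ = 1 := eq_one_of_mem_of_mem (q := 2) (q' := p) hx.p_ne_two.symm (A := zpowers x₁) (B := O.X₀)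
    (fun y => by
      obtain ⟨i, hi⟩ := y.2
      exact ⟨j, Subtype.ext (by
        rw [Subgroup.coe_pow, ← hi, Subgroup.coe_one, ← zpow_natCast (x₁ ^ i), ← zpow_mul, mul_comm,
          zpow_mul, zpow_natCast, h3, one_zpow])⟩)
    (O.isPGroup_X₀ T) (mem_zpowers _) hx₁X
  rw [hx1, mul_one] at hce
  show e * c = c * e
  calc e * c = e * c * e⁻¹ * e := by group
    _ = c * e := by rw [hce]

variable (hA : O.A ≠ ⊥)

include hA

/-- The properties of `D`. -/
theorem Ov.centralizer_facts : O.D ≠ ⊥ ∧ O.D ≤ fixS σ ∧ O.D ≤ O.A ∧ ¬ p ∣ Nat.card O.D ∧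
    (∀ S : Subgroup G, IsPGroup 2 S → Inv σ S → moved σ S = S → O.A ≤ S → S ≤ centralizer (O.D : Set G)) ∧
    moved σ O.K ≤ centralizer (O.D : Set G) ∧
    (∀ c ∈ O.K, σ c = c → c ∈ normalizer (O.D : Set G)) ∧
    (∀ y ∈ O.X₀, ∀ v ∈ vmoved ρ O.D, ρ y v = v) := by
  haveI := Fact.mk Nat.prime_two
  obtain ⟨hAσ, hAQ, hAX₀, hAA⟩ := O.A_facts hx T hT
  have hQ2 : IsPGroup 2 (moved σ (T : Subgroup G)) := T.2.to_le (Flavell.moved_le hT)
  have hnot : ∀ {S : Subgroup G}, IsPGroup 2 S → ¬ p ∣ Nat.card S := fun {S} hS hd => by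
    obtain ⟨e, he⟩ := hS.exists_card_eq
    exact hx.p_ne_two ((Nat.prime_dvd_prime_iff_eq Fact.out Nat.prime_two).1
      ((Fact.out : p.Prime).dvd_of_dvd_pow (he ▸ hd)))
  have hgenS : ∀ {S : Subgroup G} (hS : Inv σ S), moved σ S = S → moved (restr hS) ⊤ = ⊤ := fun {S} hS hSS => by
    refine Subgroup.map_injective S.subtype_injective ?_
    rw [map_moved_restr hS, hSS, ← MonoidHom.range_eq_map, range_subtype]
  have hA2 : IsPGroup 2 O.A := hQ2.to_le hAQ
  haveI : Group.IsNilpotent O.A := hA2.isNilpotent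
  have hactA := hx.mod.act hAσ (hnot hA2)
  have hgenA := hgenS hAσ hAA
  have hDA : O.D ≤ O.A := commutator_le_self _
  have hDc : ∀ d, ∀ hd : d ∈ O.D, (⟨d, hDA hd⟩ : O.A) ∈ center O.A := by
    intro d hd
    have h1 : d ∈ (commutator O.A).map O.A.subtype := by
      rw [_root_.commutator_def, map_commutator, ← MonoidHom.range_eq_map, range_subtype]; exact hd
    obtain ⟨z, hz, hze⟩ := h1
    rw [show (⟨d, hDA hd⟩ : O.A) = z from Subtype.ext hze.symm]
    exact hactA.commutator_le_center (hx.mod.inj_restr _) hgenA hz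
  have hDfix : O.D ≤ fixS σ := fun d hd => congrArg Subtype.val
    ((hactA.mem_center_iff (hx.mod.inj_restr _) hgenA).1 (hDc d hd))
  have hcentS : ∀ S : Subgroup G, IsPGroup 2 S → Inv σ S → moved σ S = S → O.A ≤ S →
      S ≤ centralizer (O.D : Set G) := by
    intro S hS hSσ hSS hAS s hs
    haveI : Group.IsNilpotent S := hS.isNilpotent
    refine mem_centralizer_iff.2 fun d hd => ?_
    have hc := ((hx.mod.act hSσ (hnot hS)).mem_center_iff (hx.mod.inj_restr _) (hgenS hSσ hSS)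
      (c := ⟨d, hAS (hDA hd)⟩)).2 (Subtype.ext (hDfix hd))
    exact (congrArg Subtype.val (Subgroup.mem_center_iff.1 hc ⟨s, hs⟩)).symm
  have hQD : (moved σ (T : Subgroup G)) ≤ centralizer (O.D : Set G) :=
    hcentS (moved σ (T : Subgroup G)) hQ2 (inv_moved hT) (hx.mod.cop.moved_moved hT) hAQ
  have hX₀D : O.X₀ ≤ centralizer (O.D : Set G) := fun y hy => mem_centralizer_iff.2 fun d hd =>
    (mem_centralizer_iff.1 (hAX₀ (hDA hd)) y hy).symm
  have hLD : moved σ O.K ≤ centralizer (O.D : Set G) := by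
    rw [O.moved_K hx T hT]
    exact sup_le hX₀D hQD
  refine ⟨?_, hDfix, hDA, hnot (hA2.to_le hDA), hcentS, hLD, fun c hc hcf => ?_, ?_⟩
  · intro hbot
    refine hA (le_bot_iff.1 ?_)
    rw [← hAA, le_bot_iff, moved_eq_bot_iff]
    have hfix := hactA.le_fixS_of_comm (hx.mod.inj_restr _) inv_top fun a _ b _ => by
      have h : ⁅(a : G), (b : G)⁆ ∈ O.D := commutator_mem_commutator a.2 b.2
      rw [hbot, mem_bot, commutatorElement_eq_one_iff_mul_comm] at h
      exact Subtype.ext h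
    exact fun a ha => congrArg Subtype.val (hfix (mem_top (⟨a, ha⟩ : O.A)))
  · obtain ⟨y, hy, hyf, hyc⟩ := O.exists_fixed_mem_normalizer hx T hT hc hcf
    have hyK : y⁻¹ * c ∈ O.K := mul_mem (inv_mem (Flavell.moved_le O.inv_K hy)) hc
    have hycf : σ (y⁻¹ * c) = y⁻¹ * c := by rw [map_mul, map_inv, hyf, hcf]
    have h1 := mem_normalizer_commutator (fixed_mem_normalizer_moved hycf
      (fixed_mem_normalizer_inf_centralizer hyc (O.fixed_mem_normalizer_X₀ hx T hyK hycf)))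
    have h2 : y ∈ normalizer (O.D : Set G) :=
      (centralizer_le_normalizer _) (hLD hy)
    have := mul_mem h2 h1
    rwa [mul_inv_cancel_left] at this
  · -- `X₀` is trivial on `[V, D]`
    let H : Subgroup G :=
      { carrier := {y | ∀ v ∈ vmoved ρ O.D, ρ y v = v}
        one_mem' := fun v _ => by simp
        mul_mem' := fun {a b} ha hb v hv => by rw [map_mul, Module.End.mul_apply, hb v hv, ha v hv]
        inv_mem' := fun {a} ha v hv => by
          conv_lhs => rw [← ha v hv]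
          rw [← Module.End.mul_apply, ← map_mul, inv_mul_cancel, map_one, Module.End.one_apply] }
    show O.X₀ ≤ H
    rw [← O.moved_X₀ hx T]
    refine moved_le_iff.2 fun y hy v hv => ?_
    have hcomm : ∀ a : O.A, ρ y * ρ (a : G) = ρ (a : G) * ρ y := fun a => by
      rw [← map_mul, ← map_mul, mem_centralizer_iff.1 (hAX₀ a.2) y hy]
    induction hv using Submodule.iSup_induction' with
    | mem d w hw =>
      obtain ⟨u, rfl⟩ := hw
      have h := LinearMap.congr_fun (hactA.commute_sub_one (hx.mod.inj_restr _) hgenA hA2 (hx.mod.r_ne p)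
        (f := ρ y) hcomm (hDc d d.2)) u
      rw [Module.End.mul_apply, LinearMap.sub_apply, LinearMap.zero_apply, sub_eq_zero, Module.End.mul_apply,
        Module.End.mul_apply, ← Module.End.mul_apply τ (ρ y), hx.mod.comm, Module.End.mul_apply] at h
      have hd : τ * ρ (d : G) = ρ (d : G) * τ := by
        rw [hx.mod.comm, show σ (d : G) = d from hDfix d.2]
      obtain ⟨τ', hτ, -⟩ : ∃ τ' : Module.End k V, τ * τ' = 1 ∧ True :=
        ⟨τ ^ (r - 1), by rw [← pow_succ', Nat.sub_add_cancel hx.mod.cop.prime.one_le, hx.mod.pow], trivial⟩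
      obtain ⟨u', rfl⟩ : ∃ u', τ u' = u := ⟨τ' u, by rw [← Module.End.mul_apply, hτ, Module.End.one_apply]⟩
      have hcm : ∀ z, τ ((ρ (d : G) - 1) z) = (ρ (d : G) - 1) (τ z) := fun z => by
        rw [LinearMap.sub_apply, LinearMap.sub_apply, Module.End.one_apply, Module.End.one_apply, map_sub,
          ← Module.End.mul_apply τ, hd, Module.End.mul_apply]
      have h2 := LinearMap.congr_fun (hactA.commute_sub_one (hx.mod.inj_restr _) hgenA hA2 (hx.mod.r_ne p)
        (f := ρ y) hcomm (hDc d d.2)) u'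
      rw [Module.End.mul_apply, LinearMap.sub_apply, LinearMap.zero_apply, sub_eq_zero, Module.End.mul_apply,
        Module.End.mul_apply, ← Module.End.mul_apply τ (ρ y), hx.mod.comm, Module.End.mul_apply] at h2
      change ρ (σ y) (τ ((ρ (d : G) - 1) u')) = ρ y (τ ((ρ (d : G) - 1) u')) at h2
      rw [hcm] at h2
      rw [map_mul, Module.End.mul_apply, h2, ← Module.End.mul_apply, ← map_mul, inv_mul_cancel, map_one,
        Module.End.one_apply]
    | zero => simp
    | add a b _ _ ha hb => rw [map_add, ha, hb]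

theorem Ov.X₀_centralizes_D {y d : G} (hy : y ∈ O.X₀) (hd : d ∈ O.D) : y * d = d * y := by
  obtain ⟨-, -, hDA, -, -, -, -, -⟩ := O.centralizer_facts hx T hT hA
  exact mem_centralizer_iff.1 ((O.A_facts hx T hT).2.2.1 (hDA hd)) y hy

/-- A nontrivial element of `D` is not central. -/
theorem Ov.not_mem_center {d : G} (hd : d ∈ O.D) (hd1 : d ≠ 1) : d ∉ center G := by
  intro hc
  obtain ⟨-, -, -, -, -, -, -, htriv⟩ := O.centralizer_facts hx T hT hA
  obtain ⟨a, ha⟩ := hx.center_scalar hc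
  have ha1 : a ≠ 1 := fun e => hd1 (hx.mod.faith (by rw [ha, e, one_smul, map_one]))
  refine O.X₀_ne_bot hx T ((eq_bot_iff_forall _).2 fun y hy => hx.mod.faith (LinearMap.ext fun v => ?_))
  have hv : v ∈ vmoved ρ O.D := by
    have h := Submodule.smul_mem _ (a - 1)⁻¹ (sub_mem_vmoved (ρ := ρ) hd v)
    rw [ha, LinearMap.smul_apply, Module.End.one_apply] at h
    rwa [show a • v - v = (a - 1) • v by rw [sub_smul, one_smul], smul_smul,
      inv_mul_cancel₀ (sub_ne_zero.2 ha1), one_smul] at h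
  rw [map_one]
  exact htriv y hy v hv

theorem Ov.centralizer_ne_top {d : G} (hd : d ∈ O.D) (hd1 : d ≠ 1) : centralizer ({d} : Set G) ≠ ⊤ := fun h =>
  O.not_mem_center hx T hT hA hd hd1 (Subgroup.mem_center_iff.2 fun g =>
    mem_centralizer_singleton_iff.1 (h.ge (mem_top g)))

variable (hO : pCore 2 G ≤ center G)

include hO

theorem Ov.normalizer_D_le : normalizer (O.D : Set G) ≤ O.K := by
  obtain ⟨hDne, hDfix, -, -, -, hLD, hfixN, -⟩ := O.centralizer_facts hx T hT hA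
  have hDσ : Inv σ O.D := fun x hx' => by rwa [show σ x = x from hDfix hx']
  have hDK : O.D ≤ O.K := (commutator_le_self _).trans ((O.A_facts hx T hT).2.1.trans O.le_K)
  refine O.le_of _ hDσ.normalizer (fun h => ?_) ?_ ?_
  · obtain ⟨d, hd, hd1⟩ := (bot_or_exists_ne_one O.D).resolve_left hDne
    exact O.not_mem_center hx T hT hA hd hd1 (hx.le_center_of_normal hO (normalizer_eq_top_iff.1 h)
      (fun e => O.ne_top (top_le_iff.1 (e ▸ hDK))) hDσ hd)
  · intro x hx'
    obtain ⟨m, hm, c, hc, hcf, rfl⟩ := hx.mod.cop.exists_mul_fixed (O.inv_P.inf O.inv_K) hx'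
    exact mul_mem (hfixN c hc.2 hcf) ((centralizer_le_normalizer _) (hLD (moved_mono inf_le_right hm)))
  · exact fun q hq => (centralizer_le_normalizer _)
      (hLD ((hx.mod.cop.moved_moved hT).ge.trans (moved_mono O.le_K) hq))

theorem Ov.centralizer_D_le : centralizer (O.D : Set G) ≤ O.K :=
  ((centralizer_le_normalizer _)).trans (O.normalizer_D_le hx T hT hA hO)

omit hO in
/-- Elements of `D` centralise a `p`-group as soon as they centralise its fixed points under `R`. -/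
theorem Ov.le_centralizer_of_fixed {U R : Subgroup G} (hU : IsPGroup p U) (hR : IsPGroup p R)
    (hRU : R ≤ normalizer (U : Set G)) {d : G} (hd : d ∈ O.D) (hdU : d ∈ normalizer (U : Set G))
    (hdR : ∀ y ∈ R, Commute d y) (hfix : ∀ c ∈ U, (∀ y ∈ R, Commute y c) → c ∈ normalizer (O.D : Set G)) :
    ∀ c ∈ U, Commute d c := by
  obtain ⟨-, -, hDA, -, -, -, -, -⟩ := O.centralizer_facts hx T hT hA
  haveI := Fact.mk Nat.prime_two
  have hD2 : IsPGroup 2 O.D := (T.2.to_le (Flavell.moved_le hT)).to_le (hDA.trans (O.A_facts hx T hT).2.1)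
  refine Balance.commute_of_commute_fixed hU hR hRU hdU ?_ hdR fun c hc hcR => ?_
  · obtain ⟨j, hj⟩ := hD2 ⟨d, hd⟩
    exact (((Nat.coprime_primes Nat.prime_two Fact.out).2 hx.p_ne_two.symm).pow_left j).coprime_dvd_left
      (orderOf_dvd_of_pow_eq_one (congrArg Subtype.val hj))
  · have h1 : d * c * d⁻¹ * c⁻¹ ∈ U := U.mul_mem ((mem_normalizer_iff.1 hdU c).1 hc) (U.inv_mem hc)
    have h2 : d * c * d⁻¹ * c⁻¹ ∈ O.D := by
      rw [show d * c * d⁻¹ * c⁻¹ = d * (c * d⁻¹ * c⁻¹) by group]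
      exact mul_mem hd ((mem_normalizer_iff.1 (hfix c hc hcR) _).1 (inv_mem hd))
    have h3 := eq_one_of_mem_of_mem (q := p) (q' := 2) hx.p_ne_two hU hD2 h1 h2
    exact (mul_inv_eq_iff_eq_mul.1 (mul_inv_eq_one.1 h3))

/-- `N(X₀) ≤ K`. -/
theorem Ov.normalizer_X₀_le : normalizer (O.X₀ : Set G) ≤ O.K := by
  haveI := Fact.mk Nat.prime_two
  obtain ⟨-, -, hDA, -, hcentS, hLD, -, -⟩ := O.centralizer_facts hx T hT hA
  obtain ⟨hAσ, hAQ, hAX₀, hAA⟩ := O.A_facts hx T hT
  set N := normalizer (O.X₀ : Set G) with hN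
  have hNσ : Inv σ N := (O.inv_X₀ T).normalizer
  have hNne : N ≠ ⊤ := hx.normalizer_ne_top_of_pGroup (O.isPGroup_X₀ T) (O.inv_X₀ T) (O.X₀_ne_bot hx T)
  have hAN : O.A ≤ N := hAX₀.trans (centralizer_le_normalizer _)
  set X := pCoreOf p (moved σ O.K) with hX
  have hXσ : Inv σ X := inv_pCoreOf' (inv_moved O.inv_K)
  have hXp : IsPGroup p X := PCore.isPGroup_pCore.map _
  have hNXle : normalizer (X : Set G) ≤ O.K := O.le_of _ hXσ.normalizer
    (hx.normalizer_ne_top_of_pGroup hXp hXσ fun h => O.X₀_ne_bot hx T (le_bot_iff.1 (h ▸ O.X₀_le_X hx T)))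
    (inf_le_right.trans (O.K_le_normalizer_X hx T)) (O.le_K.trans (O.K_le_normalizer_X hx T))
  -- `O_p(N)` centralises `D`
  have hcoreD : pCoreOf p N ≤ centralizer (O.D : Set G) := fun u hu => mem_centralizer_iff.2 fun d hd =>
    O.le_centralizer_of_fixed hx T hT hA (PCore.isPGroup_pCore.map _) hXp
      ((O.X_le_normalizer_X₀ hx T).trans (Balance.le_normalizer_core N)) hd
      (Balance.le_normalizer_core N (hAN (hDA hd)))
      (fun y hy => (mem_centralizer_iff.1 (O.A_le_centralizer_X hx T hT (hDA hd)) y hy).symm)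
      (fun c hc hcX => by
        have hcK : c ∈ O.K := hNXle ((centralizer_le_normalizer _)
          (mem_centralizer_iff.2 fun y hy => (hcX y hy).eq))
        obtain ⟨m, hm, c', hc', hc'f, rfl⟩ := hx.mod.cop.exists_mul_fixed O.inv_K hcK
        exact mul_mem ((O.centralizer_facts hx T hT hA).2.2.2.2.2.2.1 c' hc' hc'f)
          ((centralizer_le_normalizer _) (hLD hm))) u hu
  have hpmoved : ∀ R : Subgroup G, R ≤ N → Inv σ R → IsPGroup p R → moved σ R ≤ O.X₀ := fun R hR hRσ hRp => by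
    have hRK : moved σ R ≤ O.K :=
      (hx.mem_pCoreOf_of_pGroup hNne hNσ hR hRp hRσ).trans (hcoreD.trans (O.centralizer_D_le hx T hT hA hO))
    exact (hx.mod.cop.moved_moved hRσ).ge.trans
      (O.moved_le_of_le hx T hRK (inv_moved hRσ) (hRp.to_le (Flavell.moved_le hRσ)))
  have h2moved : ∀ S : Subgroup G, S ≤ N → Inv σ S → IsPGroup 2 S → O.A ≤ S →
      moved σ S ≤ moved σ O.K ∧ moved σ S ≤ centralizer (O.D : Set G) := fun S hS hSσ hS2 hAS => by
    have h := hcentS _ (hS2.to_le (Flavell.moved_le hSσ)) (inv_moved hSσ) (hx.mod.cop.moved_moved hSσ)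
      (hAA.ge.trans (moved_mono hAS))
    exact ⟨(hx.mod.cop.moved_moved hSσ).ge.trans (moved_mono (h.trans (O.centralizer_D_le hx T hT hA hO))), h⟩
  -- the moved part of `N`
  obtain ⟨S, hS, hAS⟩ := hx.mod.cop.exists_sylow_in (q := 2) hNσ hAN
    ((T.2.to_le (Flavell.moved_le hT)).to_le hAQ) hAσ
  obtain ⟨U, hU, -⟩ := hx.mod.cop.exists_sylow_in (q := p) hNσ (bot_le : ⊥ ≤ N) IsPGroup.of_bot inv_bot
  have hmN : moved σ N ≤ O.K := hx.moved_le_of_sylows_in hNσ O.inv_K S hS U hU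
    ((h2moved _ (map_subtype_le _) hS (S.2.map _) hAS).1.trans (Flavell.moved_le O.inv_K))
    ((hpmoved _ (map_subtype_le _) hU (U.2.map _)).trans ((Flavell.moved_le (O.inv_P.inf O.inv_K)).trans inf_le_right))
  -- the moved part of `C(X₀)` determines `D`
  set C := centralizer (O.X₀ : Set G) with hC
  have hCσ : Inv σ C := (O.inv_X₀ T).centralizer
  have hCN : C ≤ N := (centralizer_le_normalizer _)
  obtain ⟨S₁, hS₁, hAS₁⟩ := hx.mod.cop.exists_sylow_in (q := 2) hCσ hAX₀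
    ((T.2.to_le (Flavell.moved_le hT)).to_le hAQ) hAσ
  obtain ⟨U₁, hU₁, -⟩ := hx.mod.cop.exists_sylow_in (q := p) hCσ (bot_le : ⊥ ≤ C) IsPGroup.of_bot inv_bot
  set S'' := moved σ ((S₁ : Subgroup C).map C.subtype) with hS''
  have hS''A : S'' = O.A := by
    have h := h2moved _ ((map_subtype_le _).trans hCN) hS₁ (S₁.2.map _) hAS₁
    refine (eq_of_le_of_card_ge (hAA.ge.trans (moved_mono hAS₁)) ?_).symm
    have hL := inv_moved O.inv_K
    have hQL : moved σ (T : Subgroup G) ≤ moved σ O.K := (hx.mod.cop.moved_moved hT).ge.trans (moved_mono O.le_K)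
    obtain ⟨W₁, hW₁, hW₁le⟩ := hx.mod.cop.exists_sylow_in (q := 2) hL h.1
      ((S₁.2.map _).to_le (Flavell.moved_le hS₁)) (inv_moved hS₁)
    obtain ⟨W₀, hW₀, hW₀le⟩ := hx.mod.cop.exists_sylow_in (q := 2) hL hQL (T.2.to_le (Flavell.moved_le hT)) (inv_moved hT)
    have hinv : ∀ W : Subgroup (moved σ O.K), Inv σ (W.map (moved σ O.K).subtype) → Inv (restr hL) W :=
      fun W hW x hx' => by
        obtain ⟨y, hy, e⟩ := hW _ (mem_map_of_mem _ hx')
        rwa [show restr hL x = y from Subtype.ext e.symm]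
    obtain ⟨y, hyf, hy⟩ := (hx.mod.cop.restr hL).sylow_conj W₀ W₁ (hinv _ hW₀) (hinv _ hW₁)
    have hyσ : σ (y : G) = y := congrArg Subtype.val hyf
    have hyX : (y : G) ∈ normalizer (O.X₀ : Set G) :=
      O.fixed_mem_normalizer_X₀ hx T (Flavell.moved_le O.inv_K y.2) hyσ
    have hmap : S''.map (MulAut.conj (y : G)⁻¹).toMonoidHom ≤ O.A := by
      have hσy : σ (y : G)⁻¹ = (y : G)⁻¹ := by rw [map_inv, hyσ]
      have hm : moved σ (S''.map (MulAut.conj (y : G)⁻¹).toMonoidHom) = S''.map (MulAut.conj (y : G)⁻¹).toMonoidHom := by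
        rw [moved_map_conj hσy, hx.mod.cop.moved_moved hS₁]
      refine hm.ge.trans (moved_mono (le_inf ?_ ?_))
      · refine (hm.ge.trans (moved_mono (L := (W₀ : Subgroup (moved σ O.K)).map (moved σ O.K).subtype) ?_)).trans
          (hx.moved_two_eq T hT (W₀.2.map _) hW₀ hW₀le).le
        rintro _ ⟨s, hs, rfl⟩
        obtain ⟨w, hw, rfl⟩ := hW₁le hs
        exact ⟨y⁻¹ * w * y, (hy w).1 hw, by simp [MulAut.conj_apply, mul_assoc]⟩
      · rintro _ ⟨s, hs, rfl⟩
        have hsC : s ∈ C := map_subtype_le _ (Flavell.moved_le hS₁ hs)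
        exact (mem_normalizer_iff.1 (Balance.normalizer_le_normalizer_centralizer _ (inv_mem hyX)) s).1 hsC
    have := Nat.le_of_dvd Nat.card_pos (card_dvd_of_le hmap)
    rwa [card_map_of_injective (MulAut.conj (y : G)⁻¹).injective] at this
  set Z := O.X₀ ⊓ C with hZ
  have hmC : moved σ C ≤ O.A ⊔ Z := hx.moved_le_of_sylows_in hCσ (hAσ.sup ((O.inv_X₀ T).inf hCσ)) S₁ hS₁ U₁ hU₁
    ((le_of_eq hS''A).trans le_sup_left)
    ((le_inf (hpmoved _ ((map_subtype_le _).trans hCN) hU₁ (U₁.2.map _))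
      ((Flavell.moved_le hU₁).trans (map_subtype_le _))).trans le_sup_right)
  have hAC : O.A ≤ moved σ C := hAA.ge.trans (moved_mono hAX₀)
  have hcomm : ⁅moved σ C, moved σ C⁆ = O.D := by
    refine le_antisymm ((commutator_mono hmC hmC).trans ?_) (commutator_mono hAC hAC)
    have hsplit : ∀ g ∈ O.A ⊔ Z, ∃ a ∈ O.A, ∃ z ∈ Z, g = a * z := by
      intro g hg
      have hn : Z ≤ normalizer (O.A : Set G) := fun z hz => (centralizer_le_normalizer _)
        (mem_centralizer_iff.2 fun a ha => (mem_centralizer_iff.1 (hAX₀ ha) z hz.1).symm)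
      rw [← SetLike.mem_coe, coe_mul_of_right_le_normalizer_left O.A Z hn] at hg
      obtain ⟨a, ha, z, hz, rfl⟩ := hg
      exact ⟨a, ha, z, hz, rfl⟩
    refine commutator_le.2 fun g hg g' hg' => ?_
    obtain ⟨a, ha, z, hz, rfl⟩ := hsplit g hg
    obtain ⟨a', ha', z', hz', rfl⟩ := hsplit g' hg'
    have h1 : ∀ {a z}, a ∈ O.A → z ∈ Z → Commute a z := fun {a z} ha hz =>
      (mem_centralizer_iff.1 (hAX₀ ha) z hz.1).symm
    have h2 : Commute z z' := (mem_centralizer_iff.1 hz'.2 z hz.1)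
    have h3 : ⁅a * z, a' * z'⁆ = ⁅a, a'⁆ := by
      simp only [commutatorElement_def, mul_inv_rev]
      calc a * z * (a' * z') * (z⁻¹ * a⁻¹) * (z'⁻¹ * a'⁻¹)
          = a * (z * a') * z' * z⁻¹ * (a⁻¹ * z'⁻¹) * a'⁻¹ := by group
        _ = a * (a' * z) * z' * z⁻¹ * (z'⁻¹ * a⁻¹) * a'⁻¹ := by
          rw [(h1 ha' hz).eq, (((h1 ha hz').inv_left).inv_right).eq]
        _ = a * a' * (z * z') * z⁻¹ * z'⁻¹ * a⁻¹ * a'⁻¹ := by group
        _ = a * a' * a⁻¹ * a'⁻¹ := by rw [h2.eq]; group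
    rw [h3]
    exact commutator_mem_commutator ha ha'
  -- fixed elements
  intro n hn
  obtain ⟨m, hm, c, hc, hcf, rfl⟩ := hx.mod.cop.exists_mul_fixed hNσ hn
  refine mul_mem (O.normalizer_D_le hx T hT hA hO ?_) (hmN hm)
  rw [← hcomm]
  exact mem_normalizer_commutator (fixed_mem_normalizer_moved hcf
    (Balance.normalizer_le_normalizer_centralizer _ hc))

/-- Moved `p`-parts of a proper invariant subgroup containing `X₀` and a nontrivial element of `D` lie in `X₀`. -/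
theorem Ov.moved_le_X₀ {H R : Subgroup G} (hH : Inv σ H) (hne : H ≠ ⊤) (hX₀ : O.X₀ ≤ H) {d : G}
    (hd : d ∈ O.D) (hd1 : d ≠ 1) (hdH : d ∈ H) (hR : R ≤ H) (hRσ : Inv σ R) (hRp : IsPGroup p R) :
    moved σ R ≤ O.X₀ := by
  obtain ⟨-, hDfix, -, -, -, hLD, hfixN, -⟩ := O.centralizer_facts hx T hT hA
  have key : ∀ {H : Subgroup G}, Inv σ H → H ≠ ⊤ → O.X₀ ≤ H → ∀ {e}, e ∈ O.D → e ∈ H →
      pCoreOf p H ≤ centralizer ({e} : Set G) := by
    intro H hH hne hX₀ e he heH u hu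
    refine mem_centralizer_singleton_iff.2 ((O.le_centralizer_of_fixed hx T hT hA
      (PCore.isPGroup_pCore.map _) (O.isPGroup_X₀ T) (hX₀.trans (Balance.le_normalizer_core H)) he
      (Balance.le_normalizer_core H heH) (fun y hy => (O.X₀_centralizes_D hx T hT hA hy he).symm)
      (fun c hc hcX => ?_) u hu).eq).symm
    have hcK : c ∈ O.K := O.normalizer_X₀_le hx T hT hA hO ((centralizer_le_normalizer _)
      (mem_centralizer_iff.2 fun y hy => (hcX y hy).eq))
    obtain ⟨m, hm, c', hc', hc'f, rfl⟩ := hx.mod.cop.exists_mul_fixed O.inv_K hcK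
    exact mul_mem (hfixN c' hc' hc'f) ((centralizer_le_normalizer _) (hLD hm))
  set C := centralizer ({d} : Set G) with hC
  have hCσ : Inv σ C := inv_centralizer_of_fixed (hDfix hd)
  have hX₀C : O.X₀ ≤ C := fun y hy => mem_centralizer_singleton_iff.2 (O.X₀_centralizes_D hx T hT hA hy hd)
  have hDC : O.D ≤ C := fun e he => mem_centralizer_singleton_iff.2
    (mem_centralizer_iff.1 (hLD (by
      rw [O.moved_K hx T hT]
      exact mem_sup_right ((O.A_facts hx T hT).2.1 ((commutator_le_self _) he)))) d hd).symm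
  have h1 : moved σ R ≤ C := (hx.mem_pCoreOf_of_pGroup hne hH hR hRp hRσ).trans (key hH hne hX₀ hd hdH)
  have h2 : moved σ (moved σ R) ≤ O.K := by
    refine ((hx.mem_pCoreOf_of_pGroup (O.centralizer_ne_top hx T hT hA hd hd1) hCσ h1
      (hRp.to_le (Flavell.moved_le hRσ)) (inv_moved hRσ)).trans fun u hu => ?_)
    exact O.centralizer_D_le hx T hT hA hO (mem_centralizer_iff.2 fun e he =>
      (mem_centralizer_singleton_iff.1 (key hCσ (O.centralizer_ne_top hx T hT hA hd hd1) hX₀C he (hDC he) hu)).symm)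
  rw [hx.mod.cop.moved_moved hRσ] at h2
  exact (hx.mod.cop.moved_moved hRσ).ge.trans
    (O.moved_le_of_le hx T h2 (inv_moved hRσ) (hRp.to_le (Flavell.moved_le hRσ)))

/-- The case `A ≠ 1` is impossible. -/
theorem Ov.false_of_moved : False := by
  haveI := Fact.mk Nat.prime_two
  obtain ⟨hDne, hDfix, hDA, hDp, -, hLD, hfixN, htriv⟩ := O.centralizer_facts hx T hT hA
  obtain ⟨hAσ, hAQ, hAX₀, hAA⟩ := O.A_facts hx T hT
  obtain ⟨d₀, hd₀, hd₀1⟩ := (bot_or_exists_ne_one O.D).resolve_left hDne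
  set P := (O.P : Subgroup G) with hP
  set Y := moved σ P with hY
  have hYσ : Inv σ Y := inv_moved O.inv_P
  have hX₀Y : O.X₀ ≤ Y := moved_mono inf_le_left
  have hfalse : Y ≤ O.X₀ → False := fun h => O.ne_top (top_le_iff.1 (by
    rw [← hx.moved_top]
    refine hx.mod.cop.moved_le_of_moved_sylows O.inv_K fun q _ => ?_
    rcases eq_or_ne q 2 with rfl | hq2
    · exact ⟨T, hT, O.le_K⟩
    rcases eq_or_ne q p with rfl | hqp
    · exact ⟨O.P, O.inv_P, h.trans ((Flavell.moved_le (O.inv_P.inf O.inv_K)).trans inf_le_right)⟩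
    obtain ⟨S, hS⟩ := hx.mod.cop.exists_invariant_sylow q
    exact ⟨S, hS, (moved_eq_bot_iff.2 (hx.mod.le_fixS_of_odd hqp hq2 hS S.2)).le.trans bot_le⟩))
  -- a minimal moved normal subgroup of `P`
  obtain ⟨Z, ⟨hZP, hZσ, hPZ, hZm⟩, hmin⟩ := (Set.toFinite
    {Z : Subgroup G | Z ≤ P ∧ Inv σ Z ∧ P ≤ normalizer (Z : Set G) ∧ moved σ Z ≠ ⊥}).exists_minimal
    ⟨P, le_rfl, O.inv_P, le_normalizer, hx.moved_sylow_ne_bot O.P⟩
  have hZne : Z ≠ ⊥ := fun e => hZm (by rw [e]; exact moved_eq_bot_iff.2 bot_le)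
  set F := ⁅Z, P⁆ with hF
  have hlt : F < Z := Coprime.commutator_lt_of_isPGroup O.P.2 (O.P.2.to_le hZP) hPZ hZne
  have hPF : P ≤ normalizer (F : Set G) := fun c hc => mem_normalizer_fintype fun x hx' => by
    have h : F.map (MulAut.conj c).toMonoidHom = F := by
      rw [hF, map_commutator, inv_map_conj_mem (hPZ hc), inv_map_conj_mem (le_normalizer hc)]
    exact h.le (mem_map_of_mem _ hx')
  have hFσ : Inv σ F := fun x hx' => by
    have h : F.map σ.toMonoidHom ≤ F := by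
      rw [hF, map_commutator]
      exact commutator_mono (fun _ ⟨y, hy, e⟩ => e ▸ hZσ y hy) (fun _ ⟨y, hy, e⟩ => e ▸ O.inv_P y hy)
    exact h (mem_map_of_mem _ hx')
  have hFfix : F ≤ fixS σ := moved_eq_bot_iff.1 (by_contra fun h =>
    hlt.not_ge (hmin ⟨hlt.le.trans hZP, hFσ, hPF, h⟩ hlt.le))
  have hFY : ∀ f ∈ F, ∀ y ∈ Y, y * f = f * y := by
    intro f hf y hy
    have h : Y ≤ centralizer {f} := moved_le_iff.2 fun z hz => mem_centralizer_singleton_iff.2 (by
      have h1 : σ (z * f * z⁻¹) = z * f * z⁻¹ := hFfix ((mem_normalizer_iff.1 (hPF hz) f).1 hf)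
      rw [map_mul, map_mul, map_inv, show σ f = f from hFfix hf] at h1
      calc z⁻¹ * σ z * f = z⁻¹ * (σ z * f * (σ z)⁻¹) * σ z := by group
        _ = f * (z⁻¹ * σ z) := by rw [h1]; group)
    exact mem_centralizer_singleton_iff.1 (h hy)
  have hFP : IsPGroup p F := O.P.2.to_le (hlt.le.trans hZP)
  have hFN : F ≤ normalizer (O.X₀ : Set G) := fun f hf => (centralizer_le_normalizer _)
    (mem_centralizer_iff.2 fun y hy => hFY f hf y (hX₀Y hy))
  have hFn : F ≤ normalizer (O.D : Set G) := fun f hf =>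
    hfixN f (O.normalizer_X₀_le hx T hT hA hO (hFN hf)) (hFfix hf)
  have hFfree : ∀ f ∈ F, f ≠ 1 → ∀ d ∈ O.D, f * d = d * f → d = 1 := by
    intro f hf hf1 d hd hfd
    by_contra hd1
    have hfc : centralizer ({f} : Set G) ≠ ⊤ := fun h => hx.not_dvd_card_center (by
      have hfZ : f ∈ center G := Subgroup.mem_center_iff.2 fun g => mem_centralizer_singleton_iff.1 (h.ge (mem_top g))
      obtain ⟨e, he⟩ := hFP ⟨f, hf⟩
      have h' : orderOf f ∣ p ^ e := orderOf_dvd_of_pow_eq_one (by simpa using congrArg Subtype.val he)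
      obtain ⟨j, -, hj⟩ := (Nat.dvd_prime_pow Fact.out).1 h'
      have hj0 : j ≠ 0 := fun h0 => hf1 (orderOf_eq_one_iff.1 (by rw [hj, h0, pow_zero]))
      have := orderOf_dvd_natCard (⟨f, hfZ⟩ : center G)
      rw [orderOf_mk, hj] at this
      exact (dvd_pow_self p hj0).trans this)
    refine hfalse ?_
    rw [hY, ← hx.mod.cop.moved_moved O.inv_P]
    exact O.moved_le_X₀ hx T hT hA hO (inv_centralizer_of_fixed (hFfix hf)) hfc
      (fun y hy => mem_centralizer_singleton_iff.2 (hFY f hf y (hX₀Y hy))) hd hd1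
      (mem_centralizer_singleton_iff.2 hfd.symm)
      (fun y hy => mem_centralizer_singleton_iff.2 (hFY f hf y hy)) hYσ (O.P.2.to_le (Flavell.moved_le O.inv_P))
  have htrans : ∀ U Y' : Subgroup G, U ≤ O.X₀ → Inv σ U → Inv σ Y' →
      (∀ z ∈ Y', ∀ u ∈ U, ∃ u' ∈ U, ∃ f ∈ F, z * u * z⁻¹ = u' * f) →
      moved σ Y' ≤ normalizer (U : Set G) := fun U Y' hUX hU hY' hz =>
    hx.mod.moved_le_normalizer_of_translate hDfix hDp hDne
      (fun u hu d hd => O.X₀_centralizes_D hx T hT hA (hUX hu) hd) (fun u hu => htriv u (hUX hu))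
      hU hFfix hFP hFn hFfree (fun u hu f hf => hFY f hf u (hX₀Y (hUX hu))) hY' hz
  have hX₀P : O.X₀ ≤ P := hX₀Y.trans (Flavell.moved_le O.inv_P)
  set U := moved σ Z with hU
  have hUZ : U ≤ Z := Flavell.moved_le hZσ
  have hUσ : Inv σ U := inv_moved hZσ
  -- `[Z, σ]` lies in `X₀`
  have hUX : U ≤ O.X₀ := by
    have h := htrans O.X₀ U le_rfl (O.inv_X₀ T) hUσ fun z hz u hu => by
      refine ⟨u, hu, ⁅u⁻¹, z⁆, ?_, by rw [commutatorElement_def]; group⟩
      rw [← commutatorElement_inv]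
      exact inv_mem (commutator_mem_commutator (hUZ hz) (hX₀P (inv_mem hu)))
    rw [hU, hx.mod.cop.moved_moved hZσ] at h
    rw [hU, ← hx.mod.cop.moved_moved hZσ]
    exact O.moved_le_of_le hx T (h.trans (O.normalizer_X₀_le hx T hT hA hO)) hUσ
      ((O.P.2.to_le hZP).to_le hUZ)
  -- `[P, σ]` normalises it
  have hYU : Y ≤ normalizer (U : Set G) := by
    have h := htrans U Y hUX hUσ hYσ fun z hz u hu => by
      refine ⟨u, hu, ⁅u⁻¹, z⁆, commutator_mem_commutator (hUZ (inv_mem hu)) (Flavell.moved_le O.inv_P hz), ?_⟩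
      rw [commutatorElement_def]; group
    rwa [hY, hx.mod.cop.moved_moved O.inv_P] at h
  refine hfalse ?_
  rw [hY, ← hx.mod.cop.moved_moved O.inv_P]
  refine O.moved_le_X₀ hx T hT hA hO hUσ.normalizer
    (hx.normalizer_ne_top_of_pGroup ((O.P.2.to_le hZP).to_le hUZ) hUσ hZm) (hX₀Y.trans hYU) hd₀ hd₀1
    ((centralizer_le_normalizer _) (mem_centralizer_iff.2 fun u hu => ?_)) hYU hYσ
    (O.P.2.to_le (Flavell.moved_le O.inv_P))
  exact O.X₀_centralizes_D hx T hT hA (hUX hu) hd₀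

end Cfsg.Agent.Flavell
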