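import Cfsg.Agent.Lib.Flavell.Special

/-!
# A quadratic operator commutes with a 2-group of Flavell type

`Kind σ m`: `Q` a 2-group with central involutory commutators and squares, `σ` of order `2 ^ m + 1` fixing just
the centre.

* `Kind.apply_eq`: if `C` on a module of odd characteristic `p` has `(C - 1) ^ 2 = 0`, induces on `π(Q)` an
  automorphism `γ` of `p`-power order commuting with `σ`, then `π (γ u) = π u`.

No fixed-point hypothesis on the module. With `N = C - 1` the elements `Y u = π u - 2 π (γ u) + π (γ² u)` are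
`-2 N (π u) N`, so `Y u * Y v = 0`; where the centre is scalar the operators of the cosets of the radical are
independent, and `u, v` can be chosen with the coset of `uv` occurring once.
-/

set_option autoImplicit false
set_option linter.unusedSectionVars false
set_option linter.style.haveILetI false
set_option linter.unusedSimpArgs false

namespace Cfsg.Agent.Flavell

open Subgroup
open scoped commutatorElement

/-- The hypotheses on the group. -/
structure Kind {Q : Type*} [Group Q] (σ : MulAut Q) (r m : ℕ) : Prop where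
  cop : Cop σ r
  r_eq : r = 2 ^ m + 1
  m_pos : 0 < m
  pGroup : IsPGroup 2 Q
  mem_center : ∀ c : Q, c ∈ center Q ↔ σ c = c
  comm_mem : ∀ u v : Q, ⁅u, v⁆ ∈ center Q
  sq_mem : ∀ u : Q, u * u ∈ center Q
  zsq : ∀ z ∈ center Q, z * z = 1

namespace QuadStable

/-- Commuting elements with the same invertible scalar square in arithmetic progression up to a square-zero error
are equal. -/
theorem eq_of_sq {A : Type*} [CommRing A] (h2 : IsUnit (2 : A)) {X X' X'' ε εi : A} (hε : ε * εi = 1)
    (hX : X * X = ε) (hX' : X' * X' = ε) (hX'' : X'' * X'' = ε)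
    (hY : (X - 2 * X' + X'') * (X - 2 * X' + X'') = 0) : X' = X := by
  set Xi := εi * X with hXi
  have hinv : X * Xi = 1 := by rw [hXi]; linear_combination εi * hX + hε
  set u := X' * Xi with hu'
  set v := X'' * Xi with hv'
  have hu : u * u = 1 := by rw [hu']; linear_combination (Xi * Xi) * hX' - (Xi * Xi) * hX + (X * Xi + 1) * hinv
  have hv : v * v = 1 := by rw [hv']; linear_combination (Xi * Xi) * hX'' - (Xi * Xi) * hX + (X * Xi + 1) * hinv
  have hY' : (1 - 2 * u + v) * (1 - 2 * u + v) = 0 := by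
    have e : 1 - 2 * u + v = (X - 2 * X' + X'') * Xi := by rw [hu', hv']; linear_combination (-1 : A) * hinv
    rw [e]; linear_combination (Xi * Xi) * hY
  have h1 : (1 - u) * (3 + v) = (1 - u) * (1 - 2 * u + v) := by linear_combination (-2 : A) * hu
  have h2' : (1 - u) * (10 + 6 * v) = 0 := by
    linear_combination (3 + v + (1 - 2 * u + v)) * h1 + (1 - u) * hY' - (1 - u) * hv
  have h3 : (64 : A) * (1 - u) = 0 := by linear_combination (10 - 6 * v) * h2' + 36 * (1 - u) * hv
  have h64 : IsUnit (64 : A) := by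
    have : (64 : A) = 2 ^ 6 := by norm_num
    rw [this]; exact h2.pow 6
  have hu1 : (1 : A) - u = 0 := h64.mul_right_eq_zero.1 h3
  rw [hu'] at hu1
  linear_combination (-X) * hu1 + (-X') * hinv

variable {K : Type*} [Field K] {M : Type*} [AddCommGroup M] [Module K M]

/-- The same for commuting endomorphisms. -/
theorem end_eq_of_sq (h2 : (2 : K) ≠ 0) {X X' X'' ε εi : Module.End K M} (h01 : Commute X X')
    (h02 : Commute X X'') (h12 : Commute X' X'') (hc : ∀ Z ∈ ({X, X', X''} : Set (Module.End K M)), Commute εi Z)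
    (hε : ε * εi = 1) (hX : X * X = ε) (hX' : X' * X' = ε) (hX'' : X'' * X'' = ε)
    (hY : (X - 2 * X' + X'') * (X - 2 * X' + X'') = 0) : X' = X := by
  set ε2 : Module.End K M := (2 : K)⁻¹ • 1 with hε2
  set s : Set (Module.End K M) := {X, X', X'', εi, ε2} with hs
  have he : ∀ Z, Commute ε2 Z := fun Z => by
    rw [hε2]; exact (Commute.one_left Z).smul_left _
  have hc0 : Commute εi X := hc X (by simp)
  have hc1 : Commute εi X' := hc X' (by simp)
  have hc2 : Commute εi X'' := hc X'' (by simp)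
  have hcomm : ∀ a ∈ s, ∀ b ∈ s, a * b = b * a := by
    intro a ha b hb
    simp only [hs, Set.mem_insert_iff, Set.mem_singleton_iff] at ha hb
    rcases ha with rfl | rfl | rfl | rfl | rfl <;> rcases hb with rfl | rfl | rfl | rfl | rfl <;>
      first
      | rfl
      | exact (he _).eq
      | exact (he _).eq.symm
      | exact h01.eq | exact h01.eq.symm | exact h02.eq | exact h02.eq.symm | exact h12.eq | exact h12.eq.symm
      | exact hc0.eq | exact hc0.eq.symm | exact hc1.eq | exact hc1.eq.symm | exact hc2.eq | exact hc2.eq.symm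
  letI : CommRing (Subring.closure s) := Subring.closureCommRingOfComm hcomm
  have hmem : ∀ {a}, a ∈ s → a ∈ Subring.closure s := fun h => Subring.subset_closure h
  let x : Subring.closure s := ⟨X, hmem (by simp [hs])⟩
  let x' : Subring.closure s := ⟨X', hmem (by simp [hs])⟩
  let x'' : Subring.closure s := ⟨X'', hmem (by simp [hs])⟩
  let e : Subring.closure s := ⟨ε, hX ▸ mul_mem (hmem (by simp [hs])) (hmem (by simp [hs]))⟩
  let ei : Subring.closure s := ⟨εi, hmem (by simp [hs])⟩
  have hu2 : IsUnit (2 : Subring.closure s) := by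
    refine IsUnit.of_mul_eq_one ⟨ε2, hmem (by simp [hs])⟩ (Subtype.ext ?_)
    show (2 : Module.End K M) * ε2 = 1
    refine LinearMap.ext fun v => ?_
    rw [hε2, mul_smul_comm, mul_one, LinearMap.smul_apply, Module.End.one_apply, Module.End.ofNat_apply,
      ← Nat.cast_smul_eq_nsmul K, smul_smul, Nat.cast_ofNat, inv_mul_cancel₀ h2, one_smul]
  have := eq_of_sq hu2 (X := x) (X' := x') (X'' := x'') (ε := e) (εi := ei) (Subtype.ext hε) (Subtype.ext hX)
    (Subtype.ext hX') (Subtype.ext hX'') (Subtype.ext hY)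
  exact congrArg Subtype.val this

variable {Q : Type*} [Group Q] {γ : MulAut Q} {π : Q →* Module.End K M} {C : Module.End K M}

/-- `Y u`. -/
def sec (γ : MulAut Q) (π : Q →* Module.End K M) (u : Q) : Module.End K M :=
  π u - 2 * π (γ u) + π (γ (γ u))

theorem sec_mul_sec (hC : (C - 1) * (C - 1) = 0) (hint : ∀ u, C * π u = π (γ u) * C) (u v : Q) :
    sec γ π u * sec γ π v = 0 := by
  set N := C - 1 with hN
  have hCC : C * (1 - N) = 1 := by
    have e : C * (1 - N) = 1 - N * N := by rw [hN]; noncomm_ring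
    rw [e, hC, sub_zero]
  have hstep : ∀ w, π (γ w) = π w + N * π w - π w * N - N * π w * N := by
    intro w
    calc π (γ w) = π (γ w) * (C * (1 - N)) := by rw [hCC, mul_one]
      _ = C * π w * (1 - N) := by rw [← mul_assoc, hint]
      _ = _ := by rw [hN]; noncomm_ring
  have hY : ∀ w, sec γ π w = N * (-2 * π w) * N := by
    intro w
    have z1 : ∀ x, N * (N * x) = 0 := fun x => by rw [← mul_assoc, hC, zero_mul]
    rw [sec, hstep (γ w), hstep w]
    simp only [mul_add, add_mul, mul_sub, sub_mul, mul_assoc, z1, hC, mul_zero, zero_mul, neg_mul,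
      mul_neg, sub_zero, add_zero, zero_sub]
    noncomm_ring
  rw [hY, hY, mul_assoc, show N * (N * (-2 * π v) * N) = 0 by rw [← mul_assoc, ← mul_assoc, hC, zero_mul, zero_mul],
    mul_zero]

/-- An element commuting in `π` with its images, of square fixed by `γ` in `π`. -/
theorem apply_eq_of_commute (h2 : (2 : K) ≠ 0) (hC : (C - 1) * (C - 1) = 0)
    (hint : ∀ u, C * π u = π (γ u) * C) {x : Q} (hsq : x * x ∈ center Q)
    (hγsq : π (γ (x * x)) = π (x * x)) (h : ∀ i j : ℕ, Commute (π ((γ ^ i) x)) (π ((γ ^ j) x))) :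
    π (γ x) = π x := by
  have hγ2 : π (γ (γ (x * x))) = π (x * x) := by
    have h1 := hint (γ (x * x))
    rw [hγsq, hint (x * x), hγsq] at h1
    have hCC : C * (1 - (C - 1)) = 1 := by
      have e : C * (1 - (C - 1)) = 1 - (C - 1) * (C - 1) := by noncomm_ring
      rw [e, hC, sub_zero]
    calc π (γ (γ (x * x))) = π (γ (γ (x * x))) * C * (1 - (C - 1)) := by rw [mul_assoc, hCC, mul_one]
      _ = π (x * x) * C * (1 - (C - 1)) := by rw [← h1]
      _ = π (x * x) := by rw [mul_assoc, hCC, mul_one]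
  refine end_eq_of_sq h2 (X'' := π (γ (γ x))) (ε := π (x * x)) (εi := π (x * x)⁻¹) (h 0 1) (h 0 2) (h 1 2)
    (fun Z hZ => ?_) (by rw [← map_mul, mul_inv_cancel, map_one]) (map_mul π x x).symm
    (by rw [← map_mul, ← map_mul γ, hγsq]) (by rw [← map_mul, ← map_mul γ, ← map_mul γ, hγ2])
    (sec_mul_sec hC hint x x)
  simp only [Set.mem_insert_iff, Set.mem_singleton_iff] at hZ
  have hcz : ∀ w, Commute (π (x * x)⁻¹) (π w) := fun w => by
    show π (x * x)⁻¹ * π w = π w * π (x * x)⁻¹
    rw [← map_mul, ← map_mul, mem_center_iff.1 ((center Q).inv_mem hsq) w]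
  rcases hZ with rfl | rfl | rfl <;> exact hcz _

end QuadStable

open QuadStable

variable {K : Type*} [Field K] {M : Type*} [AddCommGroup M] [Module K M]
variable {Q : Type*} [Group Q] [Finite Q] {σ γ : MulAut Q} {r m p : ℕ} [Fact p.Prime]

theorem Kind.comm_le (hk : Kind σ r m) : commutator Q ≤ center Q := by
  rw [commutator_def, commutator_le]
  exact fun a _ b _ => hk.comm_mem a b

omit [Finite Q] [Fact p.Prime] in
theorem Kind.map_comm (hk : Kind σ r m) (u v : Q) : σ ⁅u, v⁆ = ⁅u, v⁆ :=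
  (hk.mem_center _).1 (hk.comm_mem u v)

/-- A normal invariant subgroup containing the centre, moved modulo by `γ`, has index at least `6`. -/
theorem Kind.six_le_index (hk : Kind σ r m) (hp2 : p ≠ 2) (hpr : p ≠ r) {F : Subgroup Q} [F.Normal]
    (hZF : center Q ≤ F) (hFσ : Inv σ F) (hFγ : ∀ x ∈ F, γ x ∈ F) {e : ℕ} (hγ : γ ^ (p ^ e) = 1)
    {u : Q} (hu : u⁻¹ * γ u ∉ F) : 6 ≤ F.index := by
  classical
  haveI := Fintype.ofFinite (Q ⧸ F)
  have hmap : ∀ φ : MulAut Q, (∀ x ∈ F, φ x ∈ F) → F.map φ.toMonoidHom = F := fun φ hφ =>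
    eq_of_le_of_card_ge (by rintro _ ⟨y, hy, rfl⟩; exact hφ y hy) (card_map_of_injective φ.injective).ge
  let τ : MulAut (Q ⧸ F) := QuotientGroup.congr F F σ (hmap σ hFσ)
  let δ : MulAut (Q ⧸ F) := QuotientGroup.congr F F γ (hmap γ hFγ)
  have hpow : ∀ (φ : MulAut Q) (ψ : MulAut (Q ⧸ F)), (∀ g : Q, ψ g = ((φ g : Q) : Q ⧸ F)) →
      ∀ (k : ℕ) (g : Q), (ψ ^ k) (g : Q ⧸ F) = (((φ ^ k) g : Q) : Q ⧸ F) := by
    intro φ ψ h k
    induction k with
    | zero => intro g; rfl
    | succ k ih => intro g; rw [pow_succ, MulAut.mul_apply, h, ih, pow_succ φ, MulAut.mul_apply]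
  have := Fact.mk hk.cop.prime
  let τf : Function.End (Q ⧸ F) := fun y => τ y
  have hf : τf ^ r ^ 1 = 1 := by
    rw [pow_one]
    have key : ∀ k : ℕ, ∀ y, (τf ^ k : Function.End (Q ⧸ F)) y = (τ ^ k) y := by
      intro k
      induction k with
      | zero => intro y; rfl
      | succ k ih => intro y; rw [pow_succ' τ, MulAut.mul_apply, ← ih, pow_succ']; rfl
    funext y
    obtain ⟨g, rfl⟩ := QuotientGroup.mk_surjective y
    rw [key, hpow σ τ (fun _ => rfl), hk.cop.pow_eq]
    rfl
  have hcount := Equiv.Perm.card_fixedPoints_modEq (p := r) (n := 1) hf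
  have hfix : Fintype.card (Function.fixedPoints τf) = 1 := by
    rw [Fintype.card_eq_one_iff]
    refine ⟨⟨1, map_one τ⟩, fun y => Subtype.ext ?_⟩
    obtain ⟨g, hg⟩ := QuotientGroup.mk_surjective (y : Q ⧸ F)
    have h1 : ((σ g : Q) : Q ⧸ F) = g := by
      have h := y.2
      rw [← hg] at h
      exact h
    obtain ⟨n, hn, hfx⟩ := hk.cop.exists_fixed_mul hFσ (QuotientGroup.eq.1 h1.symm)
    have h2 := F.mul_mem (hZF ((hk.mem_center _).2 hfx)) (F.inv_mem hn)
    rw [mul_inv_cancel_right] at h2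
    rw [← hg]
    exact (QuotientGroup.eq_one_iff g).2 h2
  rw [hfix, ← Nat.card_eq_fintype_card] at hcount
  obtain ⟨n, hn⟩ := hk.pGroup.exists_card_eq
  obtain ⟨d, -, hd⟩ := (Nat.dvd_prime_pow Nat.prime_two).1 (hn ▸ F.index_dvd_card)
  rw [index_eq_card] at hd ⊢
  rw [hd] at hcount ⊢
  by_contra hlt
  have hd2 : d ≤ 2 := by
    by_contra h
    exact hlt (le_trans (by norm_num) (Nat.pow_le_pow_right two_pos (show 3 ≤ d by omega)))
  have hd0 : 0 < d := by
    rcases Nat.eq_zero_or_pos d with rfl | h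
    · exfalso
      rw [pow_zero, ← index_eq_card, index_eq_one] at hd
      exact hu (hd ▸ mem_top _)
    · exact h
  have hdvd := (Nat.modEq_iff_dvd' Nat.one_le_two_pow).1 hcount.symm
  have hle := Nat.le_of_dvd (by have := Nat.one_lt_two_pow hd0.ne'; omega) hdvd
  have h4 : (2 : ℕ) ^ d ≤ 4 := (Nat.pow_le_pow_right two_pos hd2).trans_eq (by norm_num)
  have hr3 : r = 3 := by
    have := hk.r_eq
    have := Nat.pow_le_pow_right two_pos hk.m_pos
    omega
  -- `δ` has `p`-power order, `p ≥ 5`, on a set of at most four points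
  have hp5 : 4 < p := by
    have h2 := (Fact.out : p.Prime).two_le
    by_contra h
    interval_cases p
    · exact hp2 rfl
    · exact hpr hr3.symm
    · exact absurd (Fact.out : (4 : ℕ).Prime) (by norm_num)
  let δe : Equiv.Perm (Q ⧸ F) := δ.toEquiv
  have hpe : δe ^ (p ^ e) = 1 := by
    have key : ∀ (k : ℕ) y, (δe ^ k) y = (δ ^ k) y := by
      intro k
      induction k with
      | zero => intro y; rfl
      | succ k ih => intro y; rw [pow_succ' δ, MulAut.mul_apply, ← ih, pow_succ']; rfl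
    refine Equiv.ext fun y => ?_
    obtain ⟨g, rfl⟩ := QuotientGroup.mk_surjective y
    rw [key, hpow γ δ (fun _ => rfl), hγ]
    rfl
  have hord : orderOf δe ∣ (2 ^ d).factorial := by
    have h := orderOf_dvd_natCard δe
    rwa [Nat.card_perm, hd] at h
  have h24 : (2 ^ d).factorial ∣ 24 := by
    have : (24 : ℕ) = (4 : ℕ).factorial := rfl
    rw [this]; exact Nat.factorial_dvd_factorial h4
  have hcop : Nat.Coprime (p ^ e) 24 := by
    refine Nat.Coprime.pow_left _ ((Fact.out : p.Prime).coprime_iff_not_dvd.2 fun h => ?_)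
    have h' : p ∣ 2 ^ 3 * 3 := h
    rcases (Fact.out : p.Prime).dvd_mul.1 h' with h | h
    · have := Nat.le_of_dvd two_pos ((Fact.out : p.Prime).dvd_of_dvd_pow h); omega
    · have := Nat.le_of_dvd (by norm_num) h; omega
  have h1 : δe = 1 := orderOf_eq_one_iff.1
    (Nat.eq_one_of_dvd_coprimes hcop (orderOf_dvd_of_pow_eq_one hpe) (hord.trans h24))
  refine hu (QuotientGroup.eq.1 (Eq.symm ?_))
  exact (show δe (u : Q ⧸ F) = u by rw [h1]; rfl)

/-- The scalar case. -/
theorem Kind.apply_eq_of_scalar [CharP K p] [Nontrivial M] (hk : Kind σ r m) (hp2 : p ≠ 2) (hpr : p ≠ r)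
    (hγσ : ∀ u, γ (σ u) = σ (γ u)) {e : ℕ} (hγ : γ ^ (p ^ e) = 1) (π : Q →* Module.End K M)
    (C : Module.End K M) (hC : (C - 1) * (C - 1) = 0) (hint : ∀ u, C * π u = π (γ u) * C)
    (hscal : ∀ z ∈ center Q, ∃ a : K, π z = a • 1) (u : Q) : π (γ u) = π u := by
  classical
  haveI := Fintype.ofFinite Q
  have h2 : (2 : K) ≠ 0 := fun h => hp2 ((Nat.prime_dvd_prime_iff_eq Fact.out Nat.prime_two).1
    ((CharP.cast_eq_zero_iff K p 2).1 (by exact_mod_cast h)))
  have hcast : (Nat.card Q : K) ≠ 0 := by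
    obtain ⟨n, hn⟩ := hk.pGroup.exists_card_eq
    rw [hn, Nat.cast_pow]
    exact pow_ne_zero _ (by exact_mod_cast h2)
  have hcen : ∀ z ∈ center Q, π (γ z) = π z := by
    intro z hz
    refine apply_eq_of_commute h2 hC hint ((center Q).mul_mem hz hz) (by simp [hk.zsq z hz]) fun i j => ?_
    have hzi : (γ ^ i) z ∈ center Q := characteristic_iff_map_le.1 inferInstance (γ ^ i) ⟨z, hz, rfl⟩
    show π ((γ ^ i) z) * π ((γ ^ j) z) = π ((γ ^ j) z) * π ((γ ^ i) z)
    rw [← map_mul, ← map_mul, mem_center_iff.1 hzi]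
  have hcl := hk.comm_le
  set R := rad π hcl with hR
  have hZR : center Q ≤ R := center_le_rad hcl
  haveI : R.Normal := Normal.of_commutator_le Q (hcl.trans hZR)
  -- `R` is stable
  have hRσ : Inv σ R := fun x hx h => by
    obtain ⟨h, rfl⟩ := σ.surjective h
    rw [← map_commutatorElement, hk.map_comm]
    exact hx h
  have hRγ : ∀ x ∈ R, γ x ∈ R := fun x hx h => by
    obtain ⟨h, rfl⟩ := γ.surjective h
    rw [← map_commutatorElement, hcen _ (hk.comm_mem h x)]
    exact hx h
  have hRγi : ∀ (i : ℕ), ∀ x ∈ R, (γ ^ i) x ∈ R := by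
    intro i
    induction i with
    | zero => exact fun x hx => hx
    | succ i ih => intro x hx; rw [pow_succ, MulAut.mul_apply]; exact ih _ (hRγ x hx)
  -- on `R`
  have hRfix : ∀ x ∈ R, π (γ x) = π x := fun x hx =>
    apply_eq_of_commute h2 hC hint (hk.sq_mem x) (hcen _ (hk.sq_mem x)) fun i j => by
      show π ((γ ^ i) x) * π ((γ ^ j) x) = π ((γ ^ j) x) * π ((γ ^ i) x)
      rw [← map_mul, ← map_mul, show (γ ^ i) x * (γ ^ j) x = ⁅(γ ^ i) x, (γ ^ j) x⁆ * ((γ ^ j) x * (γ ^ i) x) by
        group, map_mul, hRγi j x hx ((γ ^ i) x), one_mul]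
  let q := QuotientGroup.mk' R
  have hqsq : ∀ x, q x * q x = 1 := fun x => by
    rw [← map_mul]; exact (QuotientGroup.eq_one_iff _).2 (hZR (hk.sq_mem x))
  have hqcomm : ∀ x y, q x * q y = q y * q x := fun x y => by
    rw [← map_mul, ← map_mul]
    refine QuotientGroup.eq.2 (hZR ?_)
    rw [show (x * y)⁻¹ * (y * x) = ⁅y⁻¹, x⁻¹⁆ by group]
    exact hk.comm_mem _ _
  -- modulo `R`
  have hmod : ∀ u, u⁻¹ * γ u ∈ R := by
    by_contra hne
    push Not at hne
    obtain ⟨u₀, hu₀⟩ := hne
    let f : Q →* Q ⧸ R := q.comp γ.toMonoidHom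
    have hf : ∀ x, f x = q (γ x) := fun _ => rfl
    let F : Subgroup Q := f.eqLocus q
    have hmemF : ∀ x, x ∈ F ↔ q (γ x) = q x := fun _ => Iff.rfl
    have hZF : center Q ≤ F := fun z hz => by
      rw [hmemF]
      refine QuotientGroup.eq.2 (hZR ((center Q).mul_mem ((center Q).inv_mem
        (characteristic_iff_map_le.1 inferInstance γ ⟨z, hz, rfl⟩)) hz))
    haveI : F.Normal := Normal.of_commutator_le Q (hcl.trans hZF)
    have hqR : ∀ φ : MulAut Q, (∀ x ∈ R, φ x ∈ R) → ∀ {a b : Q}, q a = q b → q (φ a) = q (φ b) := by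
      intro φ hφ a b h
      refine QuotientGroup.eq.2 ?_
      rw [← map_inv, ← map_mul]
      exact hφ _ (QuotientGroup.eq.1 h)
    have hFσ : Inv σ F := fun x hx => by
      rw [hmemF] at hx ⊢
      rw [hγσ]
      exact hqR σ hRσ hx
    have hFγ : ∀ x ∈ F, γ x ∈ F := fun x hx => by
      rw [hmemF] at hx ⊢
      exact hqR γ hRγ hx
    have hodd : ∀ x, q (γ (γ x)) = q x → x ∈ F := by
      intro x hx
      rw [hmemF]
      have key : ∀ k : ℕ, q ((γ ^ (2 * k + 1)) x) = q (γ x) := by
        intro k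
        induction k with
        | zero => simp
        | succ k ih =>
          rw [show 2 * (k + 1) + 1 = (2 * k + 1) + 2 by ring, pow_add, MulAut.mul_apply, pow_two,
            MulAut.mul_apply, ← ih]
          exact hqR _ (hRγi _) hx
      obtain ⟨k, hk'⟩ : Odd (p ^ e) := ((Fact.out : p.Prime).odd_of_ne_two hp2).pow
      have := key k
      rw [← hk', hγ] at this
      exact this.symm
    have huF : u₀ ∉ F := fun h => hu₀ (QuotientGroup.eq.1 ((hmemF _).1 h).symm)
    have h6 : 6 ≤ F.index := by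
      refine hk.six_le_index hp2 hpr hZF hFσ hFγ hγ (u := u₀) fun h => huF (hodd u₀ ?_)
      rw [hmemF, map_mul, map_inv, map_mul, map_inv] at h
      have hinvq : ∀ x, (q x)⁻¹ = q x := fun x => inv_eq_of_mul_eq_one_right (hqsq x)
      rw [hinvq, map_mul, map_inv, hinvq] at h
      calc q (γ (γ u₀)) = q (γ u₀) * (q (γ u₀) * q (γ (γ u₀))) := by
            rw [← mul_assoc, hqsq, one_mul]
        _ = q (γ u₀) * (q u₀ * q (γ u₀)) := by rw [h]
        _ = q u₀ := by rw [hqcomm u₀ (γ u₀), ← mul_assoc, hqsq, one_mul]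
    -- the images
    have hγq : ∀ (i : ℕ) {a b : Q}, q a = q b → q ((γ ^ i) a) = q ((γ ^ i) b) := fun i => hqR _ (hRγi i)
    haveI : Finite (Q ⧸ F) := inferInstance
    let bad : ℕ × ℕ → Set (Q ⧸ F) := fun ij =>
      {y | ∃ v : Q, (v : Q ⧸ F) = y ∧ q u₀ * q v = q ((γ ^ ij.1) u₀) * q ((γ ^ ij.2) v)}
    have hsub : ∀ ij : ℕ × ℕ, (ij.2 = 1 ∨ ij.2 = 2) → (bad ij).Subsingleton := by
      rintro ij hj y ⟨v, rfl, hv⟩ y' ⟨v', rfl, hv'⟩
      refine QuotientGroup.eq.2 ?_
      have h1 : q (v⁻¹ * v') = q ((γ ^ ij.2) (v⁻¹ * v')) := by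
        rw [map_mul, map_inv, map_mul, map_inv, map_mul, map_inv]
        have e1 : q v = (q u₀)⁻¹ * (q ((γ ^ ij.1) u₀) * q ((γ ^ ij.2) v)) := by rw [← hv, inv_mul_cancel_left]
        have e2 : q v' = (q u₀)⁻¹ * (q ((γ ^ ij.1) u₀) * q ((γ ^ ij.2) v')) := by rw [← hv', inv_mul_cancel_left]
        rw [e1, e2]
        group
      rcases hj with hj | hj
      · rw [hj, pow_one] at h1
        exact (hmemF _).2 h1.symm
      · rw [hj, pow_two, MulAut.mul_apply] at h1
        exact hodd _ h1.symm
    let S : Finset (ℕ × ℕ) := {(1, 1), (1, 2), (2, 1), (2, 2)}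
    obtain ⟨y, hy1, hy⟩ : ∃ y : Q ⧸ F, y ≠ 1 ∧ ∀ ij ∈ S, y ∉ bad ij := by
      haveI := Fintype.ofFinite (Q ⧸ F)
      let B : Finset (Q ⧸ F) := insert 1 (S.biUnion fun ij => (bad ij).toFinset)
      have hB : B.card ≤ 5 := by
        refine (Finset.card_insert_le _ _).trans ?_
        have h4 : (S.biUnion fun ij => (bad ij).toFinset).card ≤ S.card * 1 :=
          Finset.card_biUnion_le_card_mul _ _ _ fun ij hij => by
            rw [Finset.card_le_one]
            intro a ha b hb
            rw [Set.mem_toFinset] at ha hb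
            refine hsub ij ?_ ha hb
            simp only [S, Finset.mem_insert, Finset.mem_singleton] at hij
            rcases hij with rfl | rfl | rfl | rfl <;> simp
        have : S.card = 4 := rfl
        omega
      obtain ⟨y, -, hy⟩ := Finset.exists_mem_notMem_of_card_lt_card (s := B) (t := Finset.univ) (by
        rw [Finset.card_univ, ← Nat.card_eq_fintype_card, ← index_eq_card]; omega)
      simp only [B, Finset.mem_insert, Finset.mem_biUnion, Set.mem_toFinset, not_or, not_exists, not_and] at hy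
      exact ⟨y, hy.1, hy.2⟩
    obtain ⟨v, rfl⟩ := QuotientGroup.mk_surjective y
    have hvF : v ∉ F := fun h => hy1 ((QuotientGroup.eq_one_iff v).2 h)
    -- the character
    choose! ψ hψ using hscal
    have huniq : ∀ z ∈ center Q, ∀ a : K, π z = a • 1 → ψ z = a := fun z hz a h =>
      smul_left_injective K (one_ne_zero (α := Module.End K M)) ((hψ z hz).symm.trans h)
    have hψmul : ∀ x ∈ center Q, ∀ y ∈ center Q, ψ (x * y) = ψ x * ψ y := fun x hx y hy =>
      huniq _ (mul_mem hx hy) _ (by rw [map_mul, hψ x hx, hψ y hy, smul_mul_smul_comm, mul_one])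
    let w₀ := u₀ * v
    let Φ : Module.End K M →ₗ[K] Module.End K M :=
      ∑ t : Q, ψ ⁅t, w₀⁆ • ((LinearMap.mulLeft K (π t)).comp (LinearMap.mulRight K (π t⁻¹)))
    have hΦ : ∀ w, Φ (π w) = (∑ t : Q, ψ ⁅t, w₀ * w⁆) • π w := by
      intro w
      rw [LinearMap.sum_apply, Finset.sum_smul]
      refine Finset.sum_congr rfl fun t _ => ?_
      rw [LinearMap.smul_apply, LinearMap.comp_apply, LinearMap.mulRight_apply, LinearMap.mulLeft_apply,
        ← map_mul, ← map_mul, show t * (w * t⁻¹) = ⁅t, w⁆ * w by group, map_mul, hψ _ (hk.comm_mem t w),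
        smul_one_mul, smul_smul, ← hψmul _ (hk.comm_mem _ _) _ (hk.comm_mem _ _),
        ← PGroup.commutator_mul_right (hk.comm_mem t w)]
    have hzero : ∀ w, q w ≠ q w₀ → Φ (π w) = 0 := by
      intro w hw
      rw [hΦ]
      obtain ⟨t₀, ht₀⟩ : ∃ t₀ : Q, ψ ⁅t₀, w₀ * w⁆ ≠ 1 := by
        refine Classical.byContradiction fun h' => ?_
        have h : ∀ t, ψ ⁅t, w₀ * w⁆ = 1 := fun t => Classical.byContradiction fun ht => h' ⟨t, ht⟩
        refine hw (eq_comm.1 ?_)
        have hmem : w₀ * w ∈ R := fun t => by rw [hψ _ (hk.comm_mem _ _), h t, one_smul]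
        have h1 : q w₀ * q w = 1 := by rw [← map_mul]; exact (QuotientGroup.eq_one_iff _).2 hmem
        calc q w₀ = q w₀ * (q w * q w) := by rw [hqsq, mul_one]
          _ = q w := by rw [← mul_assoc, h1, one_mul]
      have hsum : ∑ t : Q, ψ ⁅t, w₀ * w⁆ = ψ ⁅t₀, w₀ * w⁆ * ∑ t : Q, ψ ⁅t, w₀ * w⁆ := by
        rw [Finset.mul_sum]
        refine (Fintype.sum_equiv (Equiv.mulLeft t₀) _ _ fun t => ?_).symm
        rw [Equiv.coe_mulLeft, PGroup.commutator_mul_left (hk.comm_mem t _),
          hψmul _ (hk.comm_mem _ _) _ (hk.comm_mem _ _)]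
      have : (∑ t : Q, ψ ⁅t, w₀ * w⁆) = 0 := by
        by_contra hS
        exact ht₀ (mul_right_cancel₀ hS (hsum.symm.trans (one_mul _).symm))
      rw [this, zero_smul]
    have hself : Φ (π w₀) = (Nat.card Q : K) • π w₀ := by
      rw [hΦ, Finset.sum_congr rfl fun t _ => huniq ⁅t, w₀ * w₀⁆ (hk.comm_mem _ _) 1 (by
        rw [one_smul, commutatorElement_eq_one_iff_mul_comm.2 (mem_center_iff.1 (hk.sq_mem w₀) t), map_one]),
        Finset.sum_const, Finset.card_univ, nsmul_one, Nat.card_eq_fintype_card]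
    -- the other eight products are in other cosets
    have hone : ∀ j : ℕ, (j = 1 ∨ j = 2) → ∀ x, x ∉ F → q ((γ ^ j) x) ≠ q x := by
      rintro j (rfl | rfl) x hx h
      · exact hx ((hmemF _).2 (by rwa [pow_one] at h))
      · exact hx (hodd _ (by rwa [pow_two, MulAut.mul_apply] at h))
    have hne : ∀ i j : ℕ, i ≤ 2 → j ≤ 2 → ¬ (i = 0 ∧ j = 0) → Φ (π ((γ ^ i) u₀ * (γ ^ j) v)) = 0 := by
      intro i j hi hj hij
      refine hzero _ fun h => ?_
      rw [map_mul, map_mul] at h
      rcases Nat.eq_zero_or_pos i with rfl | hi0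
      · rw [pow_zero, MulAut.one_apply, mul_right_inj] at h
        exact hone j (by omega) v hvF h
      rcases Nat.eq_zero_or_pos j with rfl | hj0
      · rw [pow_zero, MulAut.one_apply, mul_left_inj] at h
        exact hone i (by omega) u₀ huF h
      refine hy (i, j) ?_ ⟨v, rfl, h.symm⟩
      simp only [S, Finset.mem_insert, Finset.mem_singleton, Prod.mk.injEq]
      omega
    have hexp := sec_mul_sec hC hint u₀ v
    have hs2 : ∀ X : Module.End K M, 2 * X = (2 : K) • X := fun X => by
      rw [two_mul, two_smul]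
    simp only [sec, hs2, sub_mul, mul_sub, add_mul, mul_add, smul_mul_assoc, mul_smul_comm, smul_smul,
      ← map_mul π] at hexp
    have e0 : ∀ x : Q, (γ ^ 0) x = x := fun _ => rfl
    have e1 : ∀ x : Q, (γ ^ 1) x = γ x := fun x => by rw [pow_one]
    have e2 : ∀ x : Q, (γ ^ 2) x = γ (γ x) := fun x => by rw [pow_two, MulAut.mul_apply]
    have hfin := congrArg Φ hexp
    simp only [map_add, map_sub, map_smul, map_zero] at hfin
    have n01 := hne 0 1 (by omega) (by omega) (by omega)
    have n02 := hne 0 2 (by omega) (by omega) (by omega)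
    have n10 := hne 1 0 (by omega) (by omega) (by omega)
    have n11 := hne 1 1 (by omega) (by omega) (by omega)
    have n12 := hne 1 2 (by omega) (by omega) (by omega)
    have n20 := hne 2 0 (by omega) (by omega) (by omega)
    have n21 := hne 2 1 (by omega) (by omega) (by omega)
    have n22 := hne 2 2 (by omega) (by omega) (by omega)
    rw [e0, e1] at n01
    rw [e0, e2] at n02
    rw [e1, e0] at n10
    rw [e1, e1] at n11
    rw [e1, e2] at n12
    rw [e2, e0] at n20
    rw [e2, e1] at n21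
    rw [e2, e2] at n22
    rw [n01, n02, n10, n11, n12, n20, n21, n22, show u₀ * v = w₀ from rfl, hself] at hfin
    simp only [smul_zero, sub_zero, add_zero] at hfin
    have h1 : π w₀ = 0 := (smul_eq_zero.1 hfin).resolve_left hcast
    have h10 : (1 : Module.End K M) = 0 := by
      rw [← map_one π, ← mul_inv_cancel w₀, map_mul, h1, zero_mul]
    exact one_ne_zero h10
  -- the defect is fixed, so trivial
  set k := u⁻¹ * γ u with hk'
  have hkR : k ∈ R := hmod u
  have hkfix : π (γ k) = π k := hRfix k hkR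
  have hiter : ∀ n : ℕ, π ((γ ^ n) u) = π u * π k ^ n := by
    intro n
    induction n with
    | zero => simp
    | succ n ih =>
      have h1 : ∀ n : ℕ, π ((γ ^ n) k) = π k := by
        intro n
        induction n with
        | zero => rfl
        | succ n ih => rw [pow_succ, MulAut.mul_apply]; exact (by rw [← MulAut.mul_apply, ← pow_succ, pow_succ', MulAut.mul_apply]; exact (hRfix _ (hRγi n k hkR)).trans ih)
      rw [pow_succ, MulAut.mul_apply, show γ u = u * k by rw [hk', mul_inv_cancel_left], map_mul, map_mul, ih,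
        h1 n, mul_assoc, ← pow_succ]
  have hn := hiter (p ^ e)
  rw [hγ, MulAut.one_apply] at hn
  obtain ⟨j, hj⟩ := hk.pGroup k
  have hk1 : π k = 1 := by
    have ha : π k ^ p ^ e = 1 := by
      have := congrArg (π u⁻¹ * ·) hn
      simp only [← mul_assoc, ← map_mul, inv_mul_cancel, map_one, one_mul] at this
      exact this.symm
    have hb : π k ^ 2 ^ j = 1 := by rw [← map_pow, hj, map_one]
    exact orderOf_eq_one_iff.1 (Nat.eq_one_of_dvd_coprimes
      ((((Nat.coprime_primes Fact.out Nat.prime_two).2 hp2)).pow e j)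
      (orderOf_dvd_of_pow_eq_one ha) (orderOf_dvd_of_pow_eq_one hb))
  rw [show γ u = u * k by rw [hk', mul_inv_cancel_left], map_mul, hk1, mul_one]

/-- A quadratic operator inducing `γ` commutes with the group. -/
theorem Kind.apply_eq [CharP K p] (hk : Kind σ r m) (hp2 : p ≠ 2) (hpr : p ≠ r)
    (hγσ : ∀ u, γ (σ u) = σ (γ u)) {e : ℕ} (hγ : γ ^ (p ^ e) = 1) (π : Q →* Module.End K M)
    (C : Module.End K M) (hC : (C - 1) * (C - 1) = 0) (hint : ∀ u, C * π u = π (γ u) * C) (u : Q) :
    π (γ u) = π u := by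
  classical
  haveI := Fintype.ofFinite Q
  have h2 : (2 : K) ≠ 0 := fun h => hp2 ((Nat.prime_dvd_prime_iff_eq Fact.out Nat.prime_two).1
    ((CharP.cast_eq_zero_iff K p 2).1 (by exact_mod_cast h)))
  have hcen : ∀ z ∈ center Q, π (γ z) = π z := by
    intro z hz
    refine apply_eq_of_commute h2 hC hint ((center Q).mul_mem hz hz) (by simp [hk.zsq z hz]) fun i j => ?_
    have hzi : (γ ^ i) z ∈ center Q := characteristic_iff_map_le.1 inferInstance (γ ^ i) ⟨z, hz, rfl⟩
    show π ((γ ^ i) z) * π ((γ ^ j) z) = π ((γ ^ j) z) * π ((γ ^ i) z)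
    rw [← map_mul, ← map_mul, mem_center_iff.1 hzi]
  suffices H : ∀ s : Finset Q, ∀ U : Submodule K M, (∀ w, ∀ v ∈ U, π w v ∈ U) → (∀ v ∈ U, C v ∈ U) →
      (∀ z ∈ center Q, z ∉ s → ∃ a : K, ∀ v ∈ U, π z v = a • v) →
      ∀ v ∈ U, ∀ u, π (γ u) v = π u v from
    LinearMap.ext fun v => H Finset.univ ⊤ (fun _ _ _ => trivial) (fun _ _ => trivial)
      (fun z _ h => absurd (Finset.mem_univ z) h) v trivial u
  intro s
  induction s using Finset.induction_on with
  | empty =>
    intro U hπ hCU hscal v hv u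
    rcases subsingleton_or_nontrivial U with hU | hU
    · have h0 : v = 0 := congrArg Subtype.val (Subsingleton.elim (⟨v, hv⟩ : U) 0)
      rw [h0, map_zero, map_zero]
    let πU : Q →* Module.End K U :=
      { toFun := fun w => (π w).restrict (hπ w)
        map_one' := LinearMap.ext fun x => Subtype.ext (by simp)
        map_mul' := fun a b => LinearMap.ext fun x => Subtype.ext (by simp) }
    have hCC : ((C.restrict hCU : Module.End K U) - 1) * (C.restrict hCU - 1) = 0 :=
      LinearMap.ext fun x => Subtype.ext (by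
        have := LinearMap.congr_fun hC (x : M)
        simpa using this)
    have hintU : ∀ w, (C.restrict hCU : Module.End K U) * πU w = πU (γ w) * C.restrict hCU := fun w =>
      LinearMap.ext fun x => Subtype.ext (LinearMap.congr_fun (hint w) (x : M))
    have h := hk.apply_eq_of_scalar hp2 hpr hγσ hγ πU _ hCC hintU (fun z hz => by
      obtain ⟨a, ha⟩ := hscal z hz (Finset.notMem_empty z)
      exact ⟨a, LinearMap.ext fun x => Subtype.ext (ha x x.2)⟩) u
    exact congrArg Subtype.val (LinearMap.congr_fun h ⟨v, hv⟩)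
  | insert z s _ ih =>
    intro U hπ hCU hscal v hv u
    by_cases hz : z ∈ center Q
    swap
    · refine ih U hπ hCU (fun y hy hys => hscal y hy ?_) v hv u
      rw [Finset.mem_insert, not_or]
      exact ⟨fun h => hz (h ▸ hy), hys⟩
    have hCz : C * π z = π z * C := by rw [hint z, hcen z hz]
    have hzz : ∀ x, π z (π z x) = x := fun x => by
      rw [← Module.End.mul_apply, ← map_mul, hk.zsq z hz, map_one, Module.End.one_apply]
    have key : ∀ a : K, ∀ v ∈ U ⊓ Module.End.eigenspace (π z) a, ∀ u, π (γ u) v = π u v := by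
      intro a
      refine ih _ (fun w x hx => ⟨hπ w x hx.1, ?_⟩) (fun x hx => ⟨hCU x hx.1, ?_⟩) fun y hy hys => ?_
      · have h2' := Module.End.mem_eigenspace_iff.1 hx.2
        rw [SetLike.mem_coe, Module.End.mem_eigenspace_iff, ← Module.End.mul_apply, ← map_mul,
          ← mem_center_iff.1 hz w, map_mul, Module.End.mul_apply, h2', map_smul]
      · have h2' := Module.End.mem_eigenspace_iff.1 hx.2
        rw [SetLike.mem_coe, Module.End.mem_eigenspace_iff, ← Module.End.mul_apply, ← hCz,
          Module.End.mul_apply, h2', map_smul]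
      · rcases eq_or_ne y z with rfl | hyz
        · exact ⟨a, fun x hx => Module.End.mem_eigenspace_iff.1 hx.2⟩
        · obtain ⟨b, hb⟩ := hscal y hy (by rw [Finset.mem_insert, not_or]; exact ⟨hyz, hys⟩)
          exact ⟨b, fun x hx => hb x hx.1⟩
    have hv1 : (2 : K)⁻¹ • (v + π z v) ∈ U ⊓ Module.End.eigenspace (π z) 1 := by
      refine ⟨U.smul_mem _ (U.add_mem hv (hπ z v hv)), ?_⟩
      rw [SetLike.mem_coe, Module.End.mem_eigenspace_iff, map_smul, map_add, hzz, one_smul, add_comm]
    have hv2 : (2 : K)⁻¹ • (v - π z v) ∈ U ⊓ Module.End.eigenspace (π z) (-1 : K) := by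
      refine ⟨U.smul_mem _ (U.sub_mem hv (hπ z v hv)), ?_⟩
      rw [SetLike.mem_coe, Module.End.mem_eigenspace_iff, map_smul, map_sub, hzz, neg_one_smul, ← smul_neg,
        neg_sub]
    have e : v = (2 : K)⁻¹ • (v + π z v) + (2 : K)⁻¹ • (v - π z v) := by
      rw [← smul_add, show v + π z v + (v - π z v) = (2 : K) • v by rw [two_smul]; abel, smul_smul,
        inv_mul_cancel₀ h2, one_smul]
    rw [e, map_add, map_add, key 1 _ hv1 u, key (-1) _ hv2 u]

end Cfsg.Agent.Flavell
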